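import Groth.Agent.Lib.Isoc.Decomp
import Mathlib.FieldTheory.Finite.Basic

/-!
# Isocrystals over a finite field: scalars
-/

set_option autoImplicit false

noncomputable section

namespace GrothLib.Isoc

open scoped Isocrystal Pointwise

universe u

variable {p : ℕ} [Fact p.Prime] {k : Type u} [Field k] [CharP k p]

theorem natCast_ne_zero {m : ℕ} (hm : m ≠ 0) : (m : FractionRing (WittVector p k)) ≠ 0 := by
  rw [← map_natCast (algebraMap (WittVector p k) (FractionRing (WittVector p k))), Ne,
    IsFractionRing.to_map_eq_zero_iff]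
  intro h
  obtain ⟨q, hq⟩ := CharP.exists (WittVector p k)
  rcases CharP.char_is_prime_or_zero (WittVector p k) q with hp | rfl
  · have h0 : ((q : ℕ) : k) = 0 := by
      rw [← map_natCast (WittVector.constantCoeff : WittVector p k →+* k), CharP.cast_eq_zero, map_zero]
    have hdvd := (CharP.cast_eq_zero_iff k p q).mp h0
    have hpq : q = p := ((Nat.prime_dvd_prime_iff_eq Fact.out hp).mp hdvd).symm
    exact WittVector.p_nonzero p k (hpq ▸ (CharP.cast_eq_zero (WittVector p k) q))
  · exact hm (Nat.zero_dvd.mp ((CharP.cast_eq_zero_iff (WittVector p k) 0 m).mp h))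

variable [PerfectRing k p]

theorem frobEquiv_pow_coeff (m : ℕ) (w : WittVector p k) (n : ℕ) :
    ((WittVector.frobeniusEquiv p k ^ (m : ℤ)) w).coeff n = w.coeff n ^ p ^ m := by
  rw [zpow_natCast]
  induction m with
  | zero => simp
  | succ m ih =>
    rw [pow_succ', pow_succ, pow_mul, ← ih, RingAut.mul_apply, WittVector.frobeniusEquiv_apply,
      WittVector.coeff_frobenius_charP]

theorem frob_card_eq [Fintype k] {m : ℕ} (hk : Fintype.card k = p ^ m) (a : ℤ)
    (x : FractionRing (WittVector p k)) : (_root_.Isoc.frob p k a ^ m) x = x := by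
  have h1 : (WittVector.frobeniusEquiv p k) ^ (m : ℤ) = 1 := by
    refine RingEquiv.ext fun w => WittVector.ext fun n => ?_
    rw [frobEquiv_pow_coeff, ← hk, FiniteField.pow_card]
    rfl
  have h2 : (WittVector.frobeniusEquiv p k ^ a) ^ m = 1 := by
    rw [← zpow_natCast, ← zpow_mul, mul_comm, zpow_mul, h1, one_zpow]
  have h3 : ∀ (n : ℕ) (w : WittVector p k),
      (_root_.Isoc.frob p k a ^ n) (algebraMap _ _ w) =
        algebraMap (WittVector p k) (FractionRing (WittVector p k))
          (((WittVector.frobeniusEquiv p k ^ a) ^ n) w) := by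
    intro n w
    induction n with
    | zero => simp
    | succ n ih =>
      rw [pow_succ', pow_succ', RingHom.coe_mul, Function.comp_apply, ih,
        _root_.Isoc.frob_algebraMap, RingAut.mul_apply]
  have : _root_.Isoc.frob p k a ^ m = RingHom.id _ := by
    refine IsLocalization.ringHom_ext (nonZeroDivisors (WittVector p k)) (RingHom.ext fun w => ?_)
    rw [RingHom.comp_apply, h3, h2]
    simp
  rw [this, RingHom.id_apply]

end GrothLib.Isoc
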