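import Groth.Agent.Lib.Isoc.Std
import Groth.Agent.Lib.Isoc.Finite
import Groth.Agent.Lib.FieldExtra.Lang
import Mathlib.RingTheory.Nakayama

/-!
# Isocrystals over an algebraically closed field
-/

set_option autoImplicit false

noncomputable section

namespace GrothLib.Isoc

open scoped Isocrystal Pointwise

universe u v

variable {p : ℕ} [Fact p.Prime] {k : Type u} [Field k] [CharP k p] [PerfectRing k p]
variable {N : Type v} [AddCommGroup N] [Module (WittVector p k) N]
  [Module (FractionRing (WittVector p k)) N]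
  [IsScalarTower (WittVector p k) (FractionRing (WittVector p k)) N]
variable {τ τ' : FractionRing (WittVector p k) →+* FractionRing (WittVector p k)}

/-- `τ` preserves `W` and is `x ↦ x^q` modulo `p`. -/
def ResPow (τ : FractionRing (WittVector p k) →+* FractionRing (WittVector p k)) (q : ℕ) : Prop :=
  ∀ w : WittVector p k, ∃ w' : WittVector p k,
    τ (algebraMap _ _ w) = algebraMap (WittVector p k) (FractionRing (WittVector p k)) w' ∧
      w'.coeff 0 = w.coeff 0 ^ q

theorem frob_frob (a b : ℤ) (x : FractionRing (WittVector p k)) :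
    _root_.Isoc.frob p k a (_root_.Isoc.frob p k b x) = _root_.Isoc.frob p k (a + b) x := by
  have : (_root_.Isoc.frob p k a).comp (_root_.Isoc.frob p k b) = _root_.Isoc.frob p k (a + b) := by
    refine IsLocalization.ringHom_ext (nonZeroDivisors (WittVector p k)) (RingHom.ext fun w => ?_)
    simp only [RingHom.comp_apply, _root_.Isoc.frob_algebraMap, zpow_add, RingAut.mul_apply]
  exact DFunLike.congr_fun this x

theorem frob_pow (a : ℤ) : ∀ n : ℕ, _root_.Isoc.frob p k a ^ n = _root_.Isoc.frob p k ((n : ℤ) * a)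
  | 0 => by rw [Nat.cast_zero, zero_mul, _root_.Isoc.frob_zero, pow_zero]; rfl
  | n + 1 => by
    rw [pow_succ', frob_pow a n, Nat.cast_succ, add_mul, one_mul, add_comm]
    exact RingHom.ext fun x => frob_frob a _ x

theorem resPow_frob (n : ℕ) : ResPow (_root_.Isoc.frob p k (n : ℤ)) (p ^ n) := fun w =>
  ⟨_, _root_.Isoc.frob_algebraMap p k n w, frobEquiv_pow_coeff n w 0⟩

theorem span_fixed_of_resPow [IsAlgClosed k] [Module.Finite (FractionRing (WittVector p k)) N]
    (hτ : Adm p k τ) {q : ℕ} (hres : ResPow τ q) (hq : 2 ≤ q) (hq0 : (q : k) = 0)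
    {G : N →ₛₗ[τ] N} (hG : Function.Bijective G) {U : Submodule (WittVector p k) N}
    (hU : U.IsLattice (FractionRing (WittVector p k))) (heq : _root_.Isoc.latImg G 1 U = U) :
    Submodule.span (FractionRing (WittVector p k)) {x : N | G x = x} = ⊤ := by
  classical
  have := hU
  have := Submodule.IsLattice.free (K := FractionRing (WittVector p k)) U
  have : Module.Finite (WittVector p k) U := Module.Finite.iff_fg.mpr hU.fg
  set h := Module.finrank (WittVector p k) U
  let e : Module.Basis (Fin h) (WittVector p k) U := Module.finBasis (WittVector p k) U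
  let red : U → (Fin h → k) := fun x i => WittVector.constantCoeff (e.repr x i)
  have red_add : ∀ x y, red (x + y) = red x + red y := fun x y => funext fun i => by
    simp only [red, map_add, Finsupp.add_apply, Pi.add_apply]
  have red_smul : ∀ (w : WittVector p k) x, red (w • x) = WittVector.constantCoeff w • red x :=
    fun w x => funext fun i => by
      simp only [red, map_smul, Finsupp.smul_apply, smul_eq_mul, map_mul, Pi.smul_apply]
  have red_zero : ∀ x, red x = 0 → ∃ y : U, x = (p : WittVector p k) • y := by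
    intro x hx
    have hdvd : ∀ i, (p : WittVector p k) ∣ e.repr x i := by
      intro i
      have h0 : WittVector.constantCoeff (e.repr x i) = 0 := congrFun hx i
      rw [← Ideal.mem_span_singleton, ← maximalIdeal_eq, IsLocalRing.mem_maximalIdeal]
      intro hu
      exact (hu.map WittVector.constantCoeff).ne_zero h0
    choose w hw using hdvd
    refine ⟨∑ i, w i • e i, ?_⟩
    conv_lhs => rw [← e.sum_repr x]
    rw [Finset.smul_sum]
    exact Finset.sum_congr rfl fun i _ => by rw [smul_smul, ← hw]
  have red_p : ∀ y, red ((p : WittVector p k) • y) = 0 := fun y => by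
    rw [red_smul, map_natCast, CharP.cast_eq_zero, zero_smul]
  let lift : (Fin h → k) → U := fun v => ∑ i, WittVector.teichmuller p (v i) • e i
  have red_lift : ∀ v, red (lift v) = v := fun v => funext fun i => by
    simp only [red, lift, map_sum, map_smul, Finsupp.finsetSum_apply, Finsupp.smul_apply,
      e.repr_self, Finsupp.single_apply, smul_eq_mul, mul_ite, mul_one, mul_zero,
      Finset.sum_ite_eq', Finset.mem_univ, if_true]
    exact WittVector.teichmuller_coeff_zero p (v i)
  have hGmem : ∀ x : U, G (x : N) ∈ U := fun x => heq.le (Submodule.subset_span ⟨x, x.2, rfl⟩)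
  let GU : U → U := fun x => ⟨G (x : N), hGmem x⟩
  have GU_add : ∀ x y, GU (x + y) = GU x + GU y := fun x y => Subtype.ext (map_add G _ _)
  have GU_smul : ∀ (w : WittVector p k) (x : U), ∃ w' : WittVector p k,
      w'.coeff 0 = w.coeff 0 ^ q ∧ GU (w • x) = w' • GU x := by
    intro w x
    obtain ⟨w', hw', hc⟩ := hres w
    refine ⟨w', hc, Subtype.ext ?_⟩
    show G (w • (x : N)) = w' • G (x : N)
    rw [← aL_smul w, map_smulₛₗ, hw', aL_smul]
  have GU_p : ∀ y : U, GU ((p : WittVector p k) • y) = (p : WittVector p k) • GU y := fun y => by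
    refine Subtype.ext ?_
    show G ((p : WittVector p k) • (y : N)) = (p : WittVector p k) • G (y : N)
    rw [← aL_smul, ← aL_smul, map_natCast, map_smulₛₗ, tau_p]
  let ψ : (Fin h → k) → (Fin h → k) := fun v => red (GU (lift v))
  have key : ∀ x : U, ψ (red x) = red (GU x) := by
    intro x
    have h0 : red (lift (red x) - x) = 0 := by
      have := red_add (lift (red x) - x) x
      rw [sub_add_cancel, red_lift] at this
      exact add_eq_right.mp this.symm
    obtain ⟨y, hy⟩ := red_zero _ h0
    show red (GU (lift (red x))) = _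
    rw [sub_eq_iff_eq_add'.mp hy, GU_add, red_add, GU_p, red_p, add_zero]
  let ψh : (Fin h → k) →+ (Fin h → k) := AddMonoidHom.mk' ψ fun v w => by
    conv_lhs => rw [← red_lift v, ← red_lift w, ← red_add, key, GU_add, red_add]
  have hψsmul : ∀ (a : k) (v : Fin h → k), ψh (a • v) = a ^ q • ψh v := by
    intro a v
    show ψ (a • v) = a ^ q • ψ v
    have ha : a • v = red (WittVector.teichmuller p a • lift v) := by
      rw [red_smul, red_lift]
      congr 1
    obtain ⟨w', hc, hw'⟩ := GU_smul (WittVector.teichmuller p a) (lift v)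
    rw [ha, key, hw', red_smul]
    rw [WittVector.constantCoeff_apply, hc, WittVector.teichmuller_coeff_zero]
  have hGsurj : ∀ y : U, ∃ x : U, GU x = y := fun y => by
    obtain ⟨x, hx, hxy⟩ := (mem_latImg hτ).mp (heq.ge y.2)
    exact ⟨⟨x, hx⟩, Subtype.ext hxy⟩
  have hψbij : Function.Bijective ψh := by
    refine ⟨(injective_iff_map_eq_zero ψh).mpr fun v hv => ?_, fun w => ?_⟩
    · obtain ⟨y, hy⟩ := red_zero _ (show red (GU (lift v)) = 0 from hv)
      obtain ⟨y', rfl⟩ := hGsurj y
      rw [← GU_p] at hy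
      have : lift v = (p : WittVector p k) • y' :=
        Subtype.ext (hG.1 (congrArg Subtype.val hy))
      rw [← red_lift v, this, red_p]
    · obtain ⟨x, hx⟩ := hGsurj (lift w)
      exact ⟨red x, (key x).trans (by rw [hx, red_lift])⟩
  have hfix := GrothLib.FieldExtra.span_fixed_eq_top hq hq0 ψh hψsmul hψbij
  -- `G - 1` is onto modulo `p`
  have hstep : ∀ w : U, ∃ y z : U, w = (GU y - y) + (p : WittVector p k) • z := by
    intro w
    obtain ⟨s, T, hs1, -, hs3⟩ := (Submodule.mem_span_iff_exists_finset_subset (R := k)).1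
      (show red w ∈ Submodule.span k {v | ψh v = v} from hfix ▸ Submodule.mem_top)
    choose c hc using fun b : Fin h → k =>
      IsAlgClosed.exists_root (Polynomial.X ^ q - Polynomial.X - Polynomial.C (s b)) (by
        rw [sub_sub, Polynomial.degree_sub_eq_left_of_degree_lt] <;>
          simp only [Polynomial.degree_X_pow, Polynomial.degree_X_add_C]
        · exact_mod_cast (by omega : q ≠ 0)
        · exact_mod_cast (by omega : 1 < q))
    set y := lift (∑ b ∈ T, c b • b)
    have hy : ψh (red y) - red y = red w := by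
      rw [red_lift, GrothLib.FieldExtra.apply_sum_smul ψh hψsmul, ← hs3, ← Finset.sum_sub_distrib]
      refine Finset.sum_congr rfl fun b hb => ?_
      have h2 : c b ^ q - c b = s b := by simpa [Polynomial.IsRoot, sub_eq_zero] using hc b
      rw [show ψh b = b from hs1 hb, ← sub_smul, h2]
    have h0 : red (w - (GU y - y)) = 0 := by
      have h1 := red_add (w - (GU y - y)) (GU y - y)
      have h2 := red_add (GU y - y) y
      rw [sub_add_cancel] at h1 h2
      have h3 : red (GU y - y) = red w := by
        rw [← hy]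
        show _ = ψ (red y) - red y
        rw [key, h2, add_sub_cancel_right]
      rw [h3] at h1
      exact add_eq_right.mp h1.symm
    obtain ⟨z, hz⟩ := red_zero _ h0
    exact ⟨y, z, by rw [← hz]; abel⟩
  have hsurj : ∀ w : U, ∃ y : U, GU y - y = w := by
    intro w
    have hstep' : ∀ (n : ℕ) (Y : U), (∃ z : U, w - (GU Y - Y) = (p : WittVector p k) ^ n • z) →
        ∃ Y' : U, (∃ y : U, Y' - Y = (p : WittVector p k) ^ n • y) ∧
          ∃ z : U, w - (GU Y' - Y') = (p : WittVector p k) ^ (n + 1) • z := by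
      rintro n Y ⟨z, hz⟩
      obtain ⟨y, z', hz'⟩ := hstep z
      refine ⟨Y + (p : WittVector p k) ^ n • y, ⟨y, add_sub_cancel_left _ _⟩, z', ?_⟩
      have hp : ∀ (m : ℕ) (u : U), GU ((p : WittVector p k) ^ m • u) = (p : WittVector p k) ^ m • GU u := by
        intro m
        induction m with
        | zero => intro u; simp
        | succ m ih => intro u; rw [pow_succ', mul_smul, GU_p, ih, ← mul_smul]
      rw [GU_add, hp, show w - (GU Y + (p : WittVector p k) ^ n • GU y -
          (Y + (p : WittVector p k) ^ n • y)) =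
        (w - (GU Y - Y)) - (p : WittVector p k) ^ n • (GU y - y) by rw [smul_sub]; abel, hz,
        ← smul_sub, hz', add_sub_cancel_left, smul_smul, pow_succ]
    choose! f hf hf' using hstep'
    let Ys : ℕ → U := fun n => Nat.rec 0 (fun m Ym => f m Ym) n
    have hYs : ∀ n, ∃ z : U, w - (GU (Ys n) - Ys n) = (p : WittVector p k) ^ n • z := by
      intro n
      induction n with
      | zero =>
        exact ⟨w, by simp [Ys, show GU 0 = 0 from Subtype.ext (map_zero G)]⟩
      | succ n ih => exact hf' n _ ih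
    have hmem : ∀ (n : ℕ) (y : U), ((p : WittVector p k) ^ n • (y : N)) ∈ _root_.Isoc.pPow (n : ℤ) U := by
      intro n y
      rw [mem_pPow, ← p_smul_eq, smul_smul, ← zpow_add₀ (pne (p := p) (k := k)), neg_add_cancel,
        zpow_zero, one_smul]
      exact y.2
    have hd : ∀ n : ℕ, (Subtype.val (Ys (n + 1))) - (Subtype.val (Ys n)) ∈ _root_.Isoc.pPow (n : ℤ) U := by
      intro n
      obtain ⟨y, hy⟩ := hf n _ (hYs n)
      have h1 : (Subtype.val (Ys (n + 1))) - (Subtype.val (Ys n)) = (p : WittVector p k) ^ n • (y : N) :=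
        congrArg Subtype.val hy
      rw [h1]; exact hmem n y
    obtain ⟨Y, hYU, hY⟩ := exists_limit hU (fun n => (Subtype.val (Ys n))) (fun n => (Ys n).2) hd
    refine ⟨⟨Y, hYU⟩, Subtype.ext ?_⟩
    show G Y - Y = (w : N)
    refine (sub_eq_zero.mp (eq_zero_of_forall_mem hU.fg fun n => ?_)).symm
    obtain ⟨z, hz⟩ := hYs n
    have h1 : (w : N) - (G (Subtype.val (Ys n)) - (Subtype.val (Ys n))) = (p : WittVector p k) ^ n • (z : N) :=
      congrArg Subtype.val hz
    rw [show (w : N) - (G Y - Y) = ((w : N) - (G (Subtype.val (Ys n)) - (Subtype.val (Ys n)))) +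
      ((Y - (Subtype.val (Ys n))) - (G (Y - (Subtype.val (Ys n))))) by rw [map_sub]; abel]
    refine add_mem (h1 ▸ hmem n z) (sub_mem (hY n) ?_)
    have hle : _root_.Isoc.latImg G 1 (_root_.Isoc.pPow (n : ℤ) U) ≤ _root_.Isoc.pPow (n : ℤ) U := by
      rw [latImg_pPow hτ, heq]
    exact latImg_le_iff.mp hle _ (hY n)
  -- lift the fixed vectors
  have hlift : ∀ v, ψh v = v → ∃ x : U, red x = v ∧ G (x : N) = x := by
    intro v hv
    have h1 : red (GU (lift v) - lift v) = 0 := by
      have := red_add (GU (lift v) - lift v) (lift v)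
      rw [sub_add_cancel, red_lift, show red (GU (lift v)) = v from hv] at this
      exact add_eq_right.mp this.symm
    obtain ⟨z, hz⟩ := red_zero _ h1
    obtain ⟨y, hy⟩ := hsurj z
    refine ⟨lift v - (p : WittVector p k) • y, ?_, ?_⟩
    · have := red_add (lift v - (p : WittVector p k) • y) ((p : WittVector p k) • y)
      rw [sub_add_cancel, red_lift, red_p, add_zero] at this
      exact this.symm
    · have e : GU (lift v - (p : WittVector p k) • y) = lift v - (p : WittVector p k) • y := by
        have := GU_add (lift v - (p : WittVector p k) • y) ((p : WittVector p k) • y)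
        rw [sub_add_cancel, GU_p] at this
        rw [eq_sub_iff_add_eq, ← sub_eq_zero]
        calc GU (lift v - (p : WittVector p k) • y) + (p : WittVector p k) • y - lift v
            = (GU (lift v) - lift v) - (p : WittVector p k) • (GU y - y) := by
              rw [this, smul_sub]; abel
          _ = 0 := by rw [hz, hy, sub_self]
      exact congrArg Subtype.val e
  have hU' : U ≤ Submodule.span (WittVector p k) {x : N | G x = x} := by
    refine Submodule.le_of_le_smul_of_le_jacobson_bot (I := Ideal.span {(p : WittVector p k)}) hU.fg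
      (by rw [IsLocalRing.jacobson_eq_maximalIdeal ⊥ bot_ne_top, maximalIdeal_eq]) ?_
    intro x hx
    obtain ⟨s, T, hs1, -, hs3⟩ := (Submodule.mem_span_iff_exists_finset_subset (R := k)).1
      (show red ⟨x, hx⟩ ∈ Submodule.span k {v | ψh v = v} from hfix ▸ Submodule.mem_top)
    choose g hg hg' using fun b : T => hlift b (hs1 b.2)
    set x' : U := ∑ b : T, WittVector.teichmuller p (s b) • g b
    have hred : red x' = red ⟨x, hx⟩ := by
      have : ∀ (S : Finset T), red (∑ b ∈ S, WittVector.teichmuller p (s b) • g b) =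
          ∑ b ∈ S, s b • (b : Fin h → k) := by
        intro S
        induction S using Finset.induction_on with
        | empty => simp only [Finset.sum_empty]; exact funext fun i => by simp [red]
        | insert b S hb ih =>
          rw [Finset.sum_insert hb, Finset.sum_insert hb, red_add, red_smul, hg, ih,
            WittVector.constantCoeff_apply, WittVector.teichmuller_coeff_zero]
      rw [← hs3, this, ← Finset.sum_coe_sort T]
    obtain ⟨z, hz⟩ := red_zero (⟨x, hx⟩ - x') (by
      have := red_add (⟨x, hx⟩ - x') x'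
      rw [sub_add_cancel, hred] at this
      exact add_eq_right.mp this.symm)
    have hx' : x = (x' : N) + (p : WittVector p k) • (z : N) := by
      have := congrArg Subtype.val hz
      simp only [Submodule.coe_sub, Submodule.coe_smul] at this
      rw [← this]; abel
    rw [hx']
    refine add_mem (Submodule.mem_sup_left ?_)
      (Submodule.mem_sup_right (Submodule.smul_mem_smul (Ideal.mem_span_singleton_self _) z.2))
    simp only [x', Submodule.coe_sum, Submodule.coe_smul]
    exact sum_mem fun b _ => Submodule.smul_mem _ _ (Submodule.subset_span (hg' b))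
  rw [eq_top_iff, ← hU.span_eq_top]
  refine Submodule.span_le.mpr fun x hx => ?_
  have := hU' hx
  exact Submodule.span_le_restrictScalars (WittVector p k) (FractionRing (WittVector p k)) _ this

theorem span_fixed [IsAlgClosed k] [Module.Finite (FractionRing (WittVector p k)) N] {b : ℤ}
    (hb : b ≠ 0) (hτb : τ = _root_.Isoc.frob p k b) {G : N →ₛₗ[τ] N} (hG : Function.Bijective G)
    {U : Submodule (WittVector p k) N} (hU : U.IsLattice (FractionRing (WittVector p k)))
    (heq : _root_.Isoc.latImg G 1 U = U) :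
    Submodule.span (FractionRing (WittVector p k)) {x : N | G x = x} = ⊤ := by
  subst hτb
  have hp2 : 2 ≤ p := (Fact.out : p.Prime).two_le
  have hcast : ∀ n : ℕ, n ≠ 0 → ((p ^ n : ℕ) : k) = 0 := fun n hn => by
    rw [Nat.cast_pow, CharP.cast_eq_zero, zero_pow hn]
  rcases Int.natAbs_eq b with hpos | hneg
  · refine span_fixed_of_resPow (adm_frob b) (q := p ^ b.natAbs) ?_ ?_ ?_ hG hU heq
    · rw [hpos, Int.natAbs_natCast]; exact resPow_frob b.natAbs
    · exact hp2.trans (Nat.le_self_pow (Int.natAbs_ne_zero.mpr hb) p)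
    · exact hcast _ (Int.natAbs_ne_zero.mpr hb)
  · let H : N →ₛₗ[_root_.Isoc.frob p k (b.natAbs : ℤ)] N :=
      { toFun := Function.surjInv hG.2
        map_add' := fun x y => hG.1 (by rw [map_add]; simp only [Function.surjInv_eq])
        map_smul' := fun c x => hG.1 (by
          rw [map_smulₛₗ, Function.surjInv_eq hG.2, Function.surjInv_eq hG.2, frob_frob,
            show b + (b.natAbs : ℤ) = 0 by omega, _root_.Isoc.frob_zero, RingHom.id_apply]) }
    have hGH : ∀ x, G (H x) = x := fun x => Function.surjInv_eq hG.2 x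
    have hHG : ∀ x, H (G x) = x := fun x => hG.1 (hGH (G x))
    have hHb : Function.Bijective H := ⟨fun x y e => by rw [← hGH x, ← hGH y, e],
      fun x => ⟨G x, hHG x⟩⟩
    have hset : {x : N | G x = x} = {x : N | H x = x} := by
      ext x
      exact ⟨fun h => by show H x = x; conv_lhs => rw [← h, hHG],
        fun h => by show G x = x; conv_lhs => rw [← h, hGH]⟩
    rw [hset]
    refine span_fixed_of_resPow (adm_frob _) (resPow_frob b.natAbs)
      (hp2.trans (Nat.le_self_pow (Int.natAbs_ne_zero.mpr hb) p))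
      (hcast _ (Int.natAbs_ne_zero.mpr hb)) hHb hU (le_antisymm ?_ ?_)
    · rw [latImg_le_iff]
      intro y hy
      obtain ⟨z, hz, rfl⟩ := (mem_latImg (adm_frob b)).mp (heq.ge hy)
      simpa [hHG] using hz
    · intro x hx
      exact (mem_latImg (adm_frob _)).mpr ⟨G x, heq.le (Submodule.subset_span ⟨x, hx, rfl⟩), hHG x⟩

/-! ### Images of standard isocrystals -/

/-- `S` is the image of a standard isocrystal. -/
def IsStdImg (F : N →ₛₗ[τ] N) (S : Submodule (FractionRing (WittVector p k)) N) : Prop :=
  ∃ (d : ℤ) (h : ℕ) (f : (Fin h → FractionRing (WittVector p k)) →ₗ[FractionRing (WittVector p k)] N),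
    0 < h ∧ Int.gcd d h = 1 ∧ (∀ x, f (_root_.Isoc.stdIsoc τ d h x) = F (f x)) ∧
      LinearMap.range f = S

theorem IsStdImg.stable {F : N →ₛₗ[τ] N} {S : Submodule (FractionRing (WittVector p k)) N}
    (hS : IsStdImg F S) : ∀ x ∈ S, F x ∈ S := by
  obtain ⟨d, h, f, -, -, hf, rfl⟩ := hS
  rintro _ ⟨x, rfl⟩
  exact ⟨_, hf x⟩

theorem IsStdImg.simple (hτ : Adm p k τ) {F : N →ₛₗ[τ] N}
    {S : Submodule (FractionRing (WittVector p k)) N} (hS : IsStdImg F S)
    {T : Submodule (FractionRing (WittVector p k)) N} (hT : ∀ x ∈ T, F x ∈ T) (hle : T ≤ S) :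
    T = ⊥ ∨ T = S := by
  obtain ⟨d, h, f, hh, hg, hf, rfl⟩ := hS
  rcases std_simple hτ d h hh hg (T.comap f) (fun x hx => by
    rw [Submodule.mem_comap, hf]; exact hT _ hx) with e | e
  · left; rw [← Submodule.map_comap_eq_self hle, e, Submodule.map_bot]
  · right
    refine le_antisymm hle ?_
    rintro _ ⟨x, rfl⟩
    exact (e.ge (trivial : x ∈ (⊤ : Submodule (FractionRing (WittVector p k)) _)) :)

theorem exists_stdImg_mem {F : N →ₛₗ[τ] N} {d : ℤ} {h : ℕ} (hh : 0 < h) (hg : Int.gcd d h = 1)
    {v : N} (hv : (⇑F)^[h] v = (p : FractionRing (WittVector p k)) ^ d • v) :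
    ∃ S, IsStdImg F S ∧ v ∈ S := by
  classical
  let f : (Fin h → FractionRing (WittVector p k)) →ₗ[FractionRing (WittVector p k)] N :=
    Fintype.linearCombination (FractionRing (WittVector p k)) fun i : Fin h => (⇑F)^[i.val] v
  refine ⟨LinearMap.range f, ⟨d, h, f, hh, hg, fun x => ?_, rfl⟩, ?_⟩
  · simp only [f, Fintype.linearCombination_apply, map_sum, map_smulₛₗ]
    rw [← Equiv.sum_comp (finRotate h)]
    refine Finset.sum_congr rfl fun j _ => ?_
    obtain ⟨n, rfl⟩ : ∃ n, h = n + 1 := ⟨h - 1, by omega⟩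
    rw [_root_.Isoc.stdIsoc_apply, Equiv.symm_apply_apply, ← Function.iterate_succ_apply' (f := ⇑F)]
    have hval : (finRotate (n + 1) j).val = if j.val = n then 0 else j.val + 1 := by
      rw [coe_finRotate]
      simp [Fin.ext_iff]
    rw [hval]
    by_cases h1 : j.val = n
    · rw [if_pos h1, if_pos rfl, h1, hv, Function.iterate_zero_apply, smul_smul, mul_comm]
    · rw [if_neg h1, if_neg (Nat.succ_ne_zero _), one_mul]
  · refine ⟨Pi.single ⟨0, hh⟩ 1, ?_⟩
    rw [Fintype.linearCombination_apply_single, one_smul]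
    rfl

theorem le_sSup_stdImg [IsAlgClosed k] {a : ℤ} (ha : a ≠ 0)
    {F : N →ₛₗ[_root_.Isoc.frob p k a] N} [Module.Finite (FractionRing (WittVector p k)) N]
    (hF : Function.Bijective F) :
    (⊤ : Submodule (FractionRing (WittVector p k)) N) ≤ sSup {S | IsStdImg F S} := by
  have hτ := adm_frob (p := p) (k := k) a
  rw [← iSup_slopePart hτ hF]
  refine iSup_le fun μ => ?_
  obtain ⟨hs, hi⟩ := slopePart_isoclOn hτ F μ
  set P := _root_.Isoc.slopePart F μ
  set G := F.restrict hs
  rcases eq_or_ne P ⊥ with hbot | hbot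
  · simp [hbot]
  have : Nontrivial P := Submodule.nontrivial_iff_ne_bot.mpr hbot
  have hGb : Function.Bijective G := by
    refine ⟨fun x y e => Subtype.ext (hF.1 (congrArg Subtype.val e)), fun y => ?_⟩
    obtain ⟨x, hx⟩ := hF.2 (y : N)
    exact ⟨⟨x, mem_of_map_mem hF hs (hx ▸ y.2)⟩, Subtype.ext hx⟩
  obtain ⟨M, hM, r, s, hs0, hμ, e⟩ := (isIsoclinic_restrict_iff hs).mpr hi
  set d := μ.num
  set h := μ.den
  have hh : 0 < h := μ.den_pos
  have hgcd : Int.gcd d h = 1 := by
    rw [Int.gcd, Int.natAbs_natCast]; exact μ.reduced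
  obtain ⟨d', hd'⟩ := exists_ordDet hτ hGb
  have key := mul_eq_mul_of_latImg_eq hτ hd' hM e
  have hrs : r * h = d * s := by
    have h1 : (r : ℚ) / s = (d : ℚ) / h := hμ.trans (Rat.num_div_den μ).symm
    rw [div_eq_div_iff (by exact_mod_cast hs0.ne') (by exact_mod_cast hh.ne')] at h1
    exact_mod_cast h1
  obtain ⟨U, hU, hle⟩ := exists_latImg_le_of_le_slope hτ hGb
    (isFirstSlope_of_latImg_eq hτ hGb hM hs0 e) (r := d) (s := h) hh (le_of_eq (by
      rw [div_eq_div_iff (by exact_mod_cast hh.ne') (by exact_mod_cast hs0.ne')]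
      exact_mod_cast hrs.symm))
  set hP := Module.finrank (FractionRing (WittVector p k)) P
  have heq : _root_.Isoc.latImg (tw G d h) 1 U = U := by
    refine (latImg_one_eq_iff (hτ.pow h) (ordDet_smul (ordDet_iter hτ hd' h) (-d)) hU
      ((latImg_le_pPow_iff hτ G d h U).mp hle)).mpr ?_
    have h3 : (s : ℤ) * (h * d' - d * hP) = 0 := by
      linear_combination (hP : ℤ) * hrs - (h : ℤ) * key
    have h4 : (h : ℤ) * d' - d * hP = 0 :=
      (mul_eq_zero.mp h3).resolve_left (by exact_mod_cast hs0.ne')
    linarith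
  have hspan := span_fixed (b := (h : ℤ) * a) (mul_ne_zero (by exact_mod_cast hh.ne') ha)
    (frob_pow a h) (tw_bijective hτ hGb d h) hU heq
  intro x hx
  have hx' : (⟨x, hx⟩ : P) ∈ Submodule.span (FractionRing (WittVector p k))
      {y : P | tw G d h y = y} := hspan.symm ▸ Submodule.mem_top
  suffices H : Submodule.span (FractionRing (WittVector p k)) {y : P | tw G d h y = y} ≤
      (sSup {S | IsStdImg F S}).comap P.subtype from H hx'
  refine Submodule.span_le.mpr fun y hy => ?_
  have hfix : (⇑F)^[h] (y : N) = (p : FractionRing (WittVector p k)) ^ d • (y : N) := by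
    have h1 : tw G d h y = y := hy
    rw [tw, LinearMap.smul_apply, _root_.Isoc.iter_apply] at h1
    have h2 := congrArg (fun z : P => (p : FractionRing (WittVector p k)) ^ d • z) h1
    simp only [smul_smul, ← zpow_add₀ (pne (p := p) (k := k)), add_neg_cancel, zpow_zero,
      one_smul] at h2
    have h3 := congrArg Subtype.val h2
    rwa [Submodule.coe_smul, ← Submodule.coe_subtype,
      intertwine_iterate (F := G) (F₂ := F) (f := P.subtype) (fun _ => rfl) h y] at h3
  obtain ⟨S, hS, hmem⟩ := exists_stdImg_mem hh hgcd hfix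
  exact le_sSup (show S ∈ {S | IsStdImg F S} from hS) hmem

theorem exists_compl [IsAlgClosed k] {a : ℤ} (ha : a ≠ 0)
    {F : N →ₛₗ[_root_.Isoc.frob p k a] N} [Module.Finite (FractionRing (WittVector p k)) N]
    (hF : Function.Bijective F) (P : Submodule (FractionRing (WittVector p k)) N)
    (hP : ∀ x ∈ P, F x ∈ P) :
    ∃ Q : Submodule (FractionRing (WittVector p k)) N, (∀ x ∈ Q, F x ∈ Q) ∧ IsCompl P Q := by
  obtain ⟨Q, ⟨hQ, hPQ⟩, hmax⟩ := wellFounded_gt.has_min
    {Q : Submodule (FractionRing (WittVector p k)) N | (∀ x ∈ Q, F x ∈ Q) ∧ P ⊓ Q = ⊥}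
    ⟨⊥, fun x hx => by rw [Submodule.mem_bot] at hx ⊢; rw [hx, map_zero], inf_bot_eq _⟩
  refine ⟨Q, hQ, disjoint_iff.mpr hPQ, codisjoint_iff.mpr ?_⟩
  by_contra htop
  obtain ⟨S, hS, hSle⟩ : ∃ S, IsStdImg F S ∧ ¬ S ≤ P ⊔ Q := by
    by_contra hcon
    push Not at hcon
    exact htop (top_le_iff.mp ((le_sSup_stdImg ha hF).trans (sSup_le hcon)))
  have hsup : ∀ A B : Submodule (FractionRing (WittVector p k)) N, (∀ x ∈ A, F x ∈ A) →
      (∀ x ∈ B, F x ∈ B) → ∀ x ∈ A ⊔ B, F x ∈ A ⊔ B := by
    intro A B hA hB x hx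
    obtain ⟨y, hy, z, hz, rfl⟩ := Submodule.mem_sup.mp hx
    rw [map_add]
    exact add_mem (Submodule.mem_sup_left (hA y hy)) (Submodule.mem_sup_right (hB z hz))
  have hdis : S ⊓ (P ⊔ Q) = ⊥ :=
    (hS.simple (adm_frob a) (T := S ⊓ (P ⊔ Q))
      (fun x hx => ⟨hS.stable x hx.1, hsup P Q hP hQ x hx.2⟩) inf_le_left).resolve_right
      fun e => hSle (inf_eq_left.mp e)
  refine hmax (Q ⊔ S) ⟨hsup Q S hQ hS.stable, ?_⟩
    (lt_of_le_of_ne le_sup_left fun e => hSle ((le_sup_right.trans e.ge).trans le_sup_right))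
  rw [Submodule.eq_bot_iff]
  rintro x ⟨hxP, hx⟩
  obtain ⟨q, hq, s, hs, rfl⟩ := Submodule.mem_sup.mp hx
  have hs0 : s = 0 := by
    have : s ∈ S ⊓ (P ⊔ Q) := ⟨hs, by
      have := sub_mem (Submodule.mem_sup_left hxP : q + s ∈ P ⊔ Q) (Submodule.mem_sup_right hq)
      simpa using this⟩
    rwa [hdis, Submodule.mem_bot] at this
  subst hs0
  have : q + 0 ∈ P ⊓ Q := ⟨hxP, by simpa using hq⟩
  rwa [hPQ, Submodule.mem_bot] at this

theorem exists_std_decomp [IsAlgClosed k] {a : ℤ} (ha : a ≠ 0)
    {F : N →ₛₗ[_root_.Isoc.frob p k a] N} [Module.Finite (FractionRing (WittVector p k)) N]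
    (hF : Function.Bijective F) :
    ∃ (t : ℕ) (d : Fin t → ℤ) (h : Fin t → ℕ)
      (g : ((i : Fin t) → Fin (h i) → FractionRing (WittVector p k)) ≃ₗ[FractionRing (WittVector p k)] N),
      (∀ i, 0 < h i ∧ Int.gcd (d i) (h i) = 1) ∧
      ∀ x, g (fun i => _root_.Isoc.stdIsoc (_root_.Isoc.frob p k a) (d i) (h i) (x i)) = F (g x) := by
  suffices H : ∀ m : ℕ, ∀ (t : ℕ) (d : Fin t → ℤ) (h : Fin t → ℕ)
      (g : ((i : Fin t) → Fin (h i) → FractionRing (WittVector p k)) →ₗ[FractionRing (WittVector p k)] N),
      Function.Injective g → (∀ i, 0 < h i ∧ Int.gcd (d i) (h i) = 1) →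
      (∀ x, g (fun i => _root_.Isoc.stdIsoc (_root_.Isoc.frob p k a) (d i) (h i) (x i)) = F (g x)) →
      Module.finrank (FractionRing (WittVector p k)) N ≤
        Module.finrank (FractionRing (WittVector p k)) (LinearMap.range g) + m →
      ∃ (t : ℕ) (d : Fin t → ℤ) (h : Fin t → ℕ)
        (g : ((i : Fin t) → Fin (h i) → FractionRing (WittVector p k)) ≃ₗ[FractionRing (WittVector p k)] N),
        (∀ i, 0 < h i ∧ Int.gcd (d i) (h i) = 1) ∧
        ∀ x, g (fun i => _root_.Isoc.stdIsoc (_root_.Isoc.frob p k a) (d i) (h i) (x i)) = F (g x) by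
    refine H _ 0 Fin.elim0 Fin.elim0 0 (fun x y _ => funext fun i => i.elim0) (fun i => i.elim0)
      (fun x => by simp) (Nat.le_add_left _ _)
  intro m
  induction m with
  | zero =>
    intro t d h g hg hdh hint hle
    have : LinearMap.range g = ⊤ :=
      Submodule.eq_top_of_finrank_eq (le_antisymm (Submodule.finrank_le _) (by simpa using hle))
    exact ⟨t, d, h, LinearEquiv.ofBijective g ⟨hg, LinearMap.range_eq_top.mp this⟩, hdh, hint⟩
  | succ m ih =>
    intro t d h g hg hdh hint hle
    by_cases htop : LinearMap.range g = ⊤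
    · exact ⟨t, d, h, LinearEquiv.ofBijective g ⟨hg, LinearMap.range_eq_top.mp htop⟩, hdh, hint⟩
    obtain ⟨S, hS, hSle⟩ : ∃ S, IsStdImg F S ∧ ¬ S ≤ LinearMap.range g := by
      by_contra hcon
      push Not at hcon
      exact htop (top_le_iff.mp ((le_sSup_stdImg ha hF).trans (sSup_le hcon)))
    have hRs : ∀ x ∈ LinearMap.range g, F x ∈ LinearMap.range g := by
      rintro _ ⟨x, rfl⟩; exact ⟨_, hint x⟩
    have hdis : S ⊓ LinearMap.range g = ⊥ :=
      (hS.simple (adm_frob a) (T := S ⊓ LinearMap.range g)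
        (fun x hx => ⟨hS.stable x hx.1, hRs x hx.2⟩) inf_le_left).resolve_right
        fun e => hSle (inf_eq_left.mp e)
    obtain ⟨d₀, h₀, f, hh₀, hg₀, hf, rfl⟩ := hS
    have hfinj : Function.Injective f := by
      rw [← LinearMap.ker_eq_bot]
      refine (std_simple (adm_frob a) d₀ h₀ hh₀ hg₀ (LinearMap.ker f) fun x hx => ?_).resolve_right
        fun e => hSle ?_
      · rw [LinearMap.mem_ker] at hx ⊢; rw [hf, hx, map_zero]
      · rw [LinearMap.range_eq_bot.mpr (LinearMap.ker_eq_top.mp e)]; exact bot_le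
    let d' : Fin (t + 1) → ℤ := Fin.cons d₀ d
    let h' : Fin (t + 1) → ℕ := Fin.cons h₀ h
    let X' := (i : Fin (t + 1)) → Fin (h' i) → FractionRing (WittVector p k)
    let p₀ : X' →ₗ[FractionRing (WittVector p k)] (Fin h₀ → FractionRing (WittVector p k)) :=
      LinearMap.proj (φ := fun i : Fin (t + 1) => Fin (h' i) → FractionRing (WittVector p k)) 0
    let pt : X' →ₗ[FractionRing (WittVector p k)]
        ((i : Fin t) → Fin (h i) → FractionRing (WittVector p k)) :=
      LinearMap.pi fun i =>
        LinearMap.proj (φ := fun i : Fin (t + 1) => Fin (h' i) → FractionRing (WittVector p k)) i.succ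
    let g' : X' →ₗ[FractionRing (WittVector p k)] N := f.comp p₀ + g.comp pt
    have hinj' : Function.Injective g' := by
      rw [injective_iff_map_eq_zero]
      intro x hx
      have h1 : f (x 0) = -g (fun i => x i.succ) := eq_neg_of_add_eq_zero_left hx
      have h0 : f (x 0) = 0 := by
        have : f (x 0) ∈ LinearMap.range f ⊓ LinearMap.range g :=
          ⟨LinearMap.mem_range_self f (x 0), h1 ▸ neg_mem (LinearMap.mem_range_self g _)⟩
        rwa [hdis, Submodule.mem_bot] at this
      have h2 : g (fun i => x i.succ) = 0 := by rwa [h0, eq_comm, neg_eq_zero] at h1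
      funext i
      refine Fin.cases ?_ (fun j => ?_) i
      · exact (injective_iff_map_eq_zero f).mp hfinj _ h0
      · exact congrFun ((injective_iff_map_eq_zero g).mp hg _ h2) j
    refine ih (t + 1) d' h' g' hinj' (Fin.cases ⟨hh₀, hg₀⟩ hdh) ?_ ?_
    · intro x
      show f (_root_.Isoc.stdIsoc (_root_.Isoc.frob p k a) d₀ h₀ (x 0)) +
        g (fun i : Fin t => _root_.Isoc.stdIsoc (_root_.Isoc.frob p k a) (d i) (h i) (x i.succ)) =
          F (f (x 0) + g (fun i : Fin t => x i.succ))
      rw [hf, hint (fun i => x i.succ), map_add]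
    · rw [LinearMap.finrank_range_of_inj hinj', Module.finrank_pi_fintype, Fin.sum_univ_succ]
      rw [LinearMap.finrank_range_of_inj hg, Module.finrank_pi_fintype] at hle
      simp only [Module.finrank_fin_fun, h', Fin.cons_zero, Fin.cons_succ] at hle ⊢
      omega

theorem std_decomp_mult [IsAlgClosed k] {a : ℤ}
    {F : N →ₛₗ[_root_.Isoc.frob p k a] N} [Module.Finite (FractionRing (WittVector p k)) N]
    (hF : Function.Bijective F) {t : ℕ} {d : Fin t → ℤ} {h : Fin t → ℕ}
    (g : ((i : Fin t) → Fin (h i) → FractionRing (WittVector p k)) ≃ₗ[FractionRing (WittVector p k)] N)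
    (hh : ∀ i, 0 < h i)
    (hint : ∀ x, g (fun i => _root_.Isoc.stdIsoc (_root_.Isoc.frob p k a) (d i) (h i) (x i)) = F (g x))
    (μ : ℚ) :
    _root_.Isoc.newtonMult F μ = ∑ i : Fin t, (if ((d i : ℚ) / (h i : ℚ)) = μ then h i else 0) := by
  classical
  have hτ := adm_frob (p := p) (k := k) a
  let ν : Fin t → ℚ := fun i => (d i : ℚ) / h i
  let E : (i : Fin t) → (Fin (h i) → FractionRing (WittVector p k)) →ₗ[FractionRing (WittVector p k)] N :=
    fun i => g.toLinearMap.comp (LinearMap.single (FractionRing (WittVector p k))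
      (fun j : Fin t => Fin (h j) → FractionRing (WittVector p k)) i)
  have hEF : ∀ i x, E i (_root_.Isoc.stdIsoc (_root_.Isoc.frob p k a) (d i) (h i) x) = F (E i x) := by
    intro i x
    show g (Pi.single i _) = F (g (Pi.single i x))
    rw [← hint]
    congr 1
    funext j
    rcases eq_or_ne j i with rfl | hj
    · simp
    · simp [hj]
  let P : Fin t → Submodule (FractionRing (WittVector p k)) N := fun i => LinearMap.range (E i)
  have hPle : ∀ i, P i ≤ _root_.Isoc.slopePart F (ν i) := by
    intro i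
    refine le_slopePart F ?_ ?_
    · rintro _ ⟨x, rfl⟩; exact ⟨_, hEF i x⟩
    · have := (std_isoclOn hτ (d i) (h i) (hh i)).map (hEF i)
      rwa [Submodule.map_top] at this
  have hall : ∀ x : N, x ∈ ⨆ i, P i := by
    intro x
    obtain ⟨y, rfl⟩ := g.surjective x
    rw [show y = ∑ i, Pi.single i (y i) from (Finset.univ_sum_single y).symm, map_sum]
    exact sum_mem fun i _ => Submodule.mem_iSup_of_mem i ⟨y i, rfl⟩
  let J := {i : Fin t // ν i = μ}
  let ι : ((i : J) → Fin (h i) → FractionRing (WittVector p k)) →ₗ[FractionRing (WittVector p k)] N :=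
    ∑ i : J, (E i.1).comp (LinearMap.proj i)
  have hsingle : ∀ (i : J) (x : Fin (h i) → FractionRing (WittVector p k)),
      ι (Pi.single i x) = E i.1 x := by
    intro i x
    simp only [ι, LinearMap.sum_apply, LinearMap.comp_apply, LinearMap.proj_apply]
    rw [Finset.sum_eq_single i]
    · simp
    · intro j _ hj; simp [hj]
    · intro hn; exact absurd (Finset.mem_univ i) hn
  have hι : Function.Injective ι := by
    rw [injective_iff_map_eq_zero]
    intro x hx
    have h1 : g (fun i => if hi : ν i = μ then x ⟨i, hi⟩ else 0) = 0 := by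
      rw [show (fun i => if hi : ν i = μ then x ⟨i, hi⟩ else 0) =
        ∑ j : J, Pi.single (M := fun i => Fin (h i) → FractionRing (WittVector p k)) j.1 (x j) from
        funext fun i => ?_, map_sum]
      · simpa [ι, E] using hx
      · rw [Finset.sum_apply]
        by_cases hi : ν i = μ
        · rw [dif_pos hi, Finset.sum_eq_single (⟨i, hi⟩ : J)]
          · simp
          · intro j _ hj
            exact Pi.single_eq_of_ne (fun e => hj (Subtype.ext e.symm)) _
          · intro hn; exact absurd (Finset.mem_univ _) hn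
        · rw [dif_neg hi]
          symm
          refine Finset.sum_eq_zero fun j _ => Pi.single_eq_of_ne (fun e => hi ?_) _
          rw [e]; exact j.2
    have h2 := g.injective (h1.trans (map_zero g).symm)
    funext j
    simpa [j.2] using congrFun h2 j.1
  have hrange : LinearMap.range ι = _root_.Isoc.slopePart F μ := by
    refine le_antisymm ?_ fun x hx => ?_
    · rintro _ ⟨y, rfl⟩
      simp only [ι, LinearMap.sum_apply, LinearMap.comp_apply, LinearMap.proj_apply]
      refine sum_mem fun i _ => ?_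
      have h9 := hPle i.1 (LinearMap.mem_range_self (E i.1) (y i))
      rw [i.2] at h9
      exact h9
    · have hsplit : (⨆ i, P i) ≤ LinearMap.range ι ⊔ ⨆ (ν' : ℚ) (_ : ν' ≠ μ), _root_.Isoc.slopePart F ν' := by
        refine iSup_le fun i => ?_
        by_cases hi : ν i = μ
        · refine le_sup_of_le_left ?_
          rintro _ ⟨y, rfl⟩
          exact ⟨Pi.single (⟨i, hi⟩ : J) y, hsingle _ _⟩
        · exact le_sup_of_le_right ((hPle i).trans (le_iSup₂ (f := fun (ν' : ℚ) (_ : ν' ≠ μ) =>
            _root_.Isoc.slopePart F ν') (ν i) hi))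
      obtain ⟨y, hy, z, hz, rfl⟩ := Submodule.mem_sup.mp (hsplit (hall x))
      have hy' : y ∈ _root_.Isoc.slopePart F μ := by
        obtain ⟨y, rfl⟩ := hy
        simp only [ι, LinearMap.sum_apply, LinearMap.comp_apply, LinearMap.proj_apply]
        refine sum_mem fun i _ => ?_
        have h9 := hPle i.1 (LinearMap.mem_range_self (E i.1) (y i))
        rw [i.2] at h9
        exact h9
      have hz' : z ∈ _root_.Isoc.slopePart F μ := by simpa using sub_mem hx hy'
      rw [(Submodule.disjoint_def.mp (iSupIndep_slopePart hτ hF μ)) z hz' hz, add_zero]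
      exact hy
  rw [_root_.Isoc.newtonMult, ← hrange, LinearMap.finrank_range_of_inj hι, Module.finrank_pi_fintype,
    ← Finset.sum_filter]
  simp only [Module.finrank_fin_fun]
  exact (Finset.sum_subtype (Finset.univ.filter fun i => ν i = μ) (by simp) fun i => h i).symm

end GrothLib.Isoc
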