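import Groth.Agent.Lib.Isoc.Decomp
import Mathlib.LinearAlgebra.Charpoly.ToMatrix
import Mathlib.LinearAlgebra.Matrix.Charpoly.Basic
import Mathlib.LinearAlgebra.Matrix.ToLinearEquiv
import Mathlib.Algebra.DirectSum.LinearMap
import Mathlib.FieldTheory.IsAlgClosed.Basic
import Mathlib.RingTheory.IntegralClosure.IntegrallyClosed
import Mathlib.RingTheory.Polynomial.RationalRoot

/-!
# Slopes and the characteristic polynomial of a linear power of `F`
-/

set_option autoImplicit false

noncomputable section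

namespace GrothLib.Isoc

open scoped Isocrystal Pointwise

universe u v w

/-- An eigenvalue of a matrix with entries in `R` is integral over `R`. -/
theorem isIntegral_of_eigen {R : Type*} [CommRing R] {Ω : Type w} [Field Ω] [Algebra R Ω]
    {n : ℕ} (B : Matrix (Fin n) (Fin n) R) {v : Fin n → Ω} (hv : v ≠ 0) {β : Ω}
    (h : Matrix.mulVec (B.map (algebraMap R Ω)) v = β • v) : IsIntegral R β := by
  refine ⟨B.charpoly, B.charpoly_monic, ?_⟩
  rw [← Polynomial.eval_map, ← Matrix.charpoly_map, Matrix.eval_charpoly]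
  refine Matrix.exists_mulVec_eq_zero_iff.mp ⟨v, hv, ?_⟩
  rw [Matrix.sub_mulVec, h, sub_eq_zero]
  funext i
  simp [Matrix.scalar_apply, Matrix.mulVec_diagonal]

theorem charpoly_blockDiagonal' {R : Type*} [CommRing R] {o : Type*} [Fintype o] [LinearOrder o]
    {κ : o → Type*} [∀ i, Fintype (κ i)] [∀ i, DecidableEq (κ i)] [∀ i, Nonempty (κ i)]
    (M : ∀ i, Matrix (κ i) (κ i) R) :
    (Matrix.blockDiagonal' M).charpoly = ∏ i, (M i).charpoly := by
  rw [(Matrix.blockTriangular_blockDiagonal' M).charpoly,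
    show Finset.image Sigma.fst (Finset.univ : Finset (Σ i, κ i)) = Finset.univ from
      Finset.eq_univ_of_forall fun i => Finset.mem_image.mpr
        ⟨⟨i, Classical.arbitrary _⟩, Finset.mem_univ _, rfl⟩]
  refine Finset.prod_congr rfl fun i _ => ?_
  rw [show (Matrix.blockDiagonal' M).toSquareBlock Sigma.fst i =
    Matrix.reindex (Equiv.sigmaSubtype i).symm (Equiv.sigmaSubtype i).symm (M i) from ?_,
    Matrix.charpoly_reindex]
  ext ⟨⟨a, x⟩, ha⟩ ⟨⟨b, y⟩, hb⟩
  dsimp only at ha hb
  subst ha hb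
  simp [Matrix.toSquareBlock_def, Matrix.blockDiagonal'_apply, Equiv.sigmaSubtype]

variable {p : ℕ} [Fact p.Prime] {k : Type u} [Field k] [CharP k p] [PerfectRing k p]
variable {N : Type v} [AddCommGroup N] [Module (WittVector p k) N]
  [Module (FractionRing (WittVector p k)) N]
  [IsScalarTower (WittVector p k) (FractionRing (WittVector p k)) N]
variable {τ : FractionRing (WittVector p k) →+* FractionRing (WittVector p k)}
variable {Ω : Type w} [Field Ω] [Algebra (WittVector p k) Ω]
  [Algebra (FractionRing (WittVector p k)) Ω]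
  [IsScalarTower (WittVector p k) (FractionRing (WittVector p k)) Ω]

/-- `α` has slope `μ` with respect to the `m`-th iterate. -/
def HasSlope (m : ℕ) (μ : ℚ) (α : Ω) : Prop :=
  IsIntegral (WittVector p k) (α ^ μ.den * (algebraMap (FractionRing (WittVector p k)) Ω
      (p : FractionRing (WittVector p k))) ^ (-(μ.num * (m : ℤ)))) ∧
    IsIntegral (WittVector p k) (α ^ μ.den * (algebraMap (FractionRing (WittVector p k)) Ω
      (p : FractionRing (WittVector p k))) ^ (-(μ.num * (m : ℤ))))⁻¹

theorem exists_algebraMap_of_isIntegral {e : ℤ}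
    (h : IsIntegral (WittVector p k) ((algebraMap (FractionRing (WittVector p k)) Ω
      (p : FractionRing (WittVector p k))) ^ e)) : 0 ≤ e := by
  rw [← map_zpow₀, isIntegral_algebraMap_iff (algebraMap (FractionRing (WittVector p k)) Ω).injective,
    IsIntegrallyClosed.isIntegral_iff] at h
  exact (isOrdP_nonneg (isOrdP_zpow e)).mp h

theorem hasSlope_unique {m : ℕ} (hm : m ≠ 0) {μ ν : ℚ} {α : Ω} (hα : α ≠ 0)
    (h : HasSlope (p := p) (k := k) m μ α) (h' : HasSlope (p := p) (k := k) m ν α) : μ = ν := by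
  set P := algebraMap (FractionRing (WittVector p k)) Ω (p : FractionRing (WittVector p k))
  have hP : P ≠ 0 := (map_ne_zero _).mpr pne
  set e : ℤ := (ν.num * μ.den - μ.num * ν.den) * m with he
  have key : (α ^ μ.den * P ^ (-(μ.num * (m : ℤ)))) ^ ν.den *
      ((α ^ ν.den * P ^ (-(ν.num * (m : ℤ))))⁻¹) ^ μ.den = P ^ e := by
    rw [inv_pow, mul_pow, mul_pow, ← pow_mul, ← pow_mul, mul_comm ν.den μ.den, mul_inv,
      mul_mul_mul_comm, mul_inv_cancel₀ (pow_ne_zero _ hα), one_mul, ← zpow_natCast (P ^ _),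
      ← zpow_natCast (P ^ (-(ν.num * (m : ℤ)))), ← zpow_mul, ← zpow_mul, ← zpow_neg,
      ← zpow_add₀ hP, he]
    congr 1
    ring
  have key' : (α ^ ν.den * P ^ (-(ν.num * (m : ℤ)))) ^ μ.den *
      ((α ^ μ.den * P ^ (-(μ.num * (m : ℤ))))⁻¹) ^ ν.den = P ^ (-e) := by
    rw [zpow_neg P e, ← key]
    generalize α ^ μ.den * P ^ (-(μ.num * (m : ℤ))) = X
    generalize α ^ ν.den * P ^ (-(ν.num * (m : ℤ))) = Y
    rw [mul_inv, ← inv_pow X, ← inv_pow (Y⁻¹), inv_inv, mul_comm]
  have h1 : 0 ≤ e :=
    exists_algebraMap_of_isIntegral (Ω := Ω) (p := p) (k := k) (key ▸ (h.1.pow _).mul (h'.2.pow _))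
  have h2 : 0 ≤ -e :=
    exists_algebraMap_of_isIntegral (Ω := Ω) (p := p) (k := k) (key' ▸ (h'.1.pow _).mul (h.2.pow _))
  have h3 : ν.num * μ.den - μ.num * ν.den = 0 :=
    (mul_eq_zero.mp (show (ν.num * μ.den - μ.num * ν.den) * (m : ℤ) = 0 by rw [← he]; omega)).resolve_right
      (by exact_mod_cast hm)
  rw [← Rat.num_div_den μ, ← Rat.num_div_den ν,
    div_eq_div_iff (by exact_mod_cast μ.den_nz) (by exact_mod_cast ν.den_nz)]
  exact_mod_cast (by linarith : μ.num * (ν.den : ℤ) = ν.num * μ.den)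

theorem hasSlope_of_isoclinic (hτ : Adm p k τ) {G : N →ₛₗ[τ] N}
    [Module.Finite (FractionRing (WittVector p k)) N] (hG : Function.Bijective G) {ν : ℚ}
    (hν : _root_.Isoc.IsIsoclinic G ν) (m : ℕ) {f : N →ₗ[FractionRing (WittVector p k)] N}
    (hf : ∀ x, f x = (⇑G)^[m] x) {α : Ω}
    (hα : α ∈ (f.charpoly.map (algebraMap (FractionRing (WittVector p k)) Ω)).roots) :
    α ≠ 0 ∧ HasSlope (p := p) (k := k) m ν α := by
  obtain ⟨U, hU, r, s, hs, hν, e⟩ := hν
  obtain ⟨c, hc, -, hiff⟩ :=
    exists_lattice_basis hU (Module.finBasis (FractionRing (WittVector p k)) N)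
  have hτs := hτ.pow s
  have heq : _root_.Isoc.latImg (tw G r s) 1 U = U := (latImg_eq_pPow_iff hτ G r s U).mp e
  have heqm : _root_.Isoc.latImg (tw G r s) m U = U := by
    simpa [pPow_zero] using latImg_mul_eq hτs (s := 1) (r := 0) (M := U) (by rwa [pPow_zero]) m
  set cm : FractionRing (WittVector p k) := (p : FractionRing (WittVector p k)) ^ (-((m : ℤ) * r))
  set f' : N →ₗ[FractionRing (WittVector p k)] N := cm • f ^ s with hf'
  have hfs : ∀ x, f' x = (⇑(tw G r s))^[m] x := by
    intro x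
    rw [hf', LinearMap.smul_apply, tw_iterate, Module.End.pow_apply]
    congr 1
    rw [show ⇑f = (⇑G)^[m] from funext hf, ← Function.iterate_mul, mul_comm]
  choose w hw using fun i j : Fin _ =>
    (hiff _).mp (heqm.le (Submodule.subset_span ⟨c j, hc j, rfl⟩)) i
  choose y hy hy' using fun j => (mem_latImg hτs).mp (heqm.ge (hc j))
  choose z hz using fun i j : Fin _ => (hiff _).mp (hy j) i
  set B : Matrix (Fin _) (Fin _) (WittVector p k) := Matrix.of w with hB
  set B' : Matrix (Fin _) (Fin _) (WittVector p k) := Matrix.of z with hB'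
  have hBmap : B.map (algebraMap (WittVector p k) (FractionRing (WittVector p k))) =
      LinearMap.toMatrix c c f' := by
    ext i j
    rw [Matrix.map_apply, hB, Matrix.of_apply, hw, LinearMap.toMatrix_apply, hfs]
  have hBB : B * B' = 1 := by
    apply Matrix.map_injective (IsFractionRing.injective (WittVector p k) (FractionRing (WittVector p k)))
    dsimp only
    rw [Matrix.map_mul, hBmap, Matrix.map_one _ (map_zero _) (map_one _)]
    ext i j
    have h1 := congrFun (LinearMap.toMatrix_mulVec_repr c c f' (y j)) i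
    rw [hfs, hy', c.repr_self] at h1
    rw [Matrix.mul_apply, Matrix.one_apply]
    refine Eq.trans (Finset.sum_congr rfl fun l _ => ?_) (h1.trans ?_)
    · rw [Matrix.map_apply, hB', Matrix.of_apply, hz]
    · rw [Finsupp.single_apply]; simp [eq_comm]
  set φ := algebraMap (FractionRing (WittVector p k)) Ω
  have hmon := f.charpoly_monic.map φ
  have hroot := (Polynomial.mem_roots hmon.ne_zero).mp hα
  rw [← f.charpoly_toMatrix c, ← Matrix.charpoly_map, Polynomial.IsRoot.def, Matrix.eval_charpoly]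
    at hroot
  obtain ⟨v, hv, hv'⟩ := Matrix.exists_mulVec_eq_zero_iff.mpr hroot
  set A := (LinearMap.toMatrix c c f).map φ with hA
  have hAv : Matrix.mulVec A v = α • v := by
    rw [Matrix.sub_mulVec, sub_eq_zero] at hv'
    rw [← hv']
    funext i
    simp [Matrix.scalar_apply, Matrix.mulVec_diagonal]
  have hAsv : ∀ n : ℕ, Matrix.mulVec (A ^ n) v = α ^ n • v := by
    intro n
    induction n with
    | zero => simp
    | succ n ih =>
      rw [pow_succ, ← Matrix.mulVec_mulVec, hAv, Matrix.mulVec_smul, ih, smul_smul, ← pow_succ']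
  set β := φ cm * α ^ s with hβdef
  have hcomp : (algebraMap (WittVector p k) Ω : WittVector p k → Ω) =
      φ ∘ algebraMap (WittVector p k) (FractionRing (WittVector p k)) :=
    funext fun x => IsScalarTower.algebraMap_apply _ _ _ x
  have hAs : B.map (algebraMap (WittVector p k) Ω) = φ cm • A ^ s := by
    rw [hcomp, ← Matrix.map_map, hBmap, hf', map_smul, Matrix.map_smul' _ _ _ (map_mul φ),
      hA, ← Matrix.map_pow, LinearMap.toMatrix_pow]
  have hBv : Matrix.mulVec (B.map (algebraMap (WittVector p k) Ω)) v = β • v := by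
    rw [hAs, Matrix.smul_mulVec, hAsv, smul_smul]
  have hB'B : B'.map (algebraMap (WittVector p k) Ω) * B.map (algebraMap (WittVector p k) Ω) = 1 := by
    rw [← Matrix.map_mul, mul_eq_one_comm.mp hBB, Matrix.map_one _ (map_zero _) (map_one _)]
  have h2 : β • Matrix.mulVec (B'.map (algebraMap (WittVector p k) Ω)) v = v := by
    rw [← Matrix.mulVec_smul, ← hBv, Matrix.mulVec_mulVec, hB'B, Matrix.one_mulVec]
  have hβ : β ≠ 0 := fun h0 => hv (by rw [← h2, h0, zero_smul])
  have hB'v : Matrix.mulVec (B'.map (algebraMap (WittVector p k) Ω)) v = β⁻¹ • v := by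
    conv_rhs => rw [← h2]
    rw [inv_smul_smul₀ hβ]
  have i1 : IsIntegral (WittVector p k) β := isIntegral_of_eigen B hv hBv
  have i2 : IsIntegral (WittVector p k) β⁻¹ := isIntegral_of_eigen B' hv hB'v
  have hα0 : α ≠ 0 := fun h0 => hβ (by rw [hβdef, h0, zero_pow hs.ne', mul_zero])
  set P := φ (p : FractionRing (WittVector p k)) with hP
  have hr : r * ν.den = ν.num * s := by
    have := hν.trans (Rat.num_div_den ν).symm
    rw [div_eq_div_iff (by exact_mod_cast hs.ne') (by exact_mod_cast ν.den_nz)] at this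
    exact_mod_cast this
  have hpow : (α ^ ν.den * P ^ (-(ν.num * (m : ℤ)))) ^ s = β ^ ν.den := by
    rw [hβdef, map_zpow₀, mul_pow, mul_pow, ← pow_mul, ← pow_mul, mul_comm ν.den s,
      ← zpow_natCast (P ^ _), ← zpow_natCast ((φ (p : FractionRing (WittVector p k))) ^ _),
      ← zpow_mul, ← zpow_mul, ← hP, show -(ν.num * (m : ℤ)) * (s : ℤ) = -((m : ℤ) * r) * (ν.den : ℤ) by
        linear_combination (m : ℤ) * hr, mul_comm]
  refine ⟨hα0, IsIntegral.of_pow hs ?_, IsIntegral.of_pow hs ?_⟩
  · rw [hpow]; exact i1.pow _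
  · rw [inv_pow, hpow, ← inv_pow]; exact i2.pow _

theorem newtonMult_eq_countP (hτ : Adm p k τ) {F : N →ₛₗ[τ] N}
    [Module.Finite (FractionRing (WittVector p k)) N] (hF : Function.Bijective F) {m : ℕ}
    (hm : m ≠ 0) {π : N →ₗ[FractionRing (WittVector p k)] N} (hπ : ∀ x, π x = (⇑F)^[m] x)
    [IsAlgClosed Ω] (μ : ℚ) [DecidablePred (HasSlope (p := p) (k := k) (Ω := Ω) m μ)] :
    _root_.Isoc.newtonMult F μ =
      Multiset.countP (HasSlope (p := p) (k := k) (Ω := Ω) m μ)
        (π.charpoly.map (algebraMap (FractionRing (WittVector p k)) Ω)).roots := by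
  classical
  set S := {ν : ℚ // _root_.Isoc.slopePart F ν ≠ ⊥}
  have : Fintype S := (iSupIndep_slopePart hτ hF).fintypeNeBotOfFiniteDimensional
  set V : S → Submodule (FractionRing (WittVector p k)) N := fun ν => _root_.Isoc.slopePart F ν.1
  have hV : DirectSum.IsInternal V := by
    refine (DirectSum.isInternal_submodule_iff_iSupIndep_and_iSup_eq_top _).mpr
      ⟨(iSupIndep_slopePart hτ hF).comp Subtype.val_injective, ?_⟩
    rw [← iSup_slopePart hτ hF]
    exact iSup_ne_bot_subtype _
  have hVs : ∀ ν : S, ∀ x ∈ V ν, F x ∈ V ν := fun ν => (slopePart_isoclOn hτ F ν.1).1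
  have hVπ : ∀ ν : S, Set.MapsTo π (V ν) (V ν) := fun ν x hx => by
    rw [hπ]; exact iterate_mem_of_stable (hVs ν) m hx
  have : ∀ ν : S, Nonempty (Fin (Module.finrank (FractionRing (WittVector p k)) (V ν))) := fun ν => by
    refine Fin.pos_iff_nonempty.mp (Nat.pos_of_ne_zero ?_)
    rw [Ne, Submodule.finrank_eq_zero]; exact ν.2
  let bb := fun ν : S => Module.finBasis (FractionRing (WittVector p k)) (V ν)
  have hchar : π.charpoly = ∏ ν : S, (π.restrict (hVπ ν)).charpoly := by
    rw [← π.charpoly_toMatrix (hV.collectedBasis bb),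
      LinearMap.toMatrix_directSum_collectedBasis_eq_blockDiagonal' hV hV bb bb hVπ]
    refine Eq.trans ?_ (Finset.prod_congr rfl fun ν _ => LinearMap.charpoly_toMatrix _ (bb ν))
    convert charpoly_blockDiagonal' (fun ν : S =>
      LinearMap.toMatrix (bb ν) (bb ν) (π.restrict (hVπ ν)))
  set R : S → Multiset Ω := fun ν =>
    ((π.restrict (hVπ ν)).charpoly.map (algebraMap (FractionRing (WittVector p k)) Ω)).roots with hR
  have hmon : ∀ ν : S, ((π.restrict (hVπ ν)).charpoly.map
      (algebraMap (FractionRing (WittVector p k)) Ω)).Monic := fun ν =>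
    (LinearMap.charpoly_monic _).map _
  have hroots : (π.charpoly.map (algebraMap (FractionRing (WittVector p k)) Ω)).roots =
      ∑ ν : S, R ν := by
    rw [hchar, Polynomial.map_prod, Polynomial.roots_prod _ _
      (Finset.prod_ne_zero_iff.mpr fun ν _ => (hmon ν).ne_zero)]
    rfl
  have hcount : Multiset.countP (HasSlope (p := p) (k := k) (Ω := Ω) m μ) (∑ ν : S, R ν) =
      ∑ ν : S, Multiset.countP (HasSlope (p := p) (k := k) (Ω := Ω) m μ) (R ν) :=
    map_sum (Multiset.countPAddMonoidHom (HasSlope (p := p) (k := k) (Ω := Ω) m μ)) R Finset.univ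
  rw [hroots, hcount]
  have hpiece : ∀ ν : S, Multiset.countP (HasSlope (p := p) (k := k) (Ω := Ω) m μ) (R ν) =
      if ν.1 = μ then _root_.Isoc.newtonMult F ν.1 else 0 := by
    intro ν
    obtain ⟨hs, hi⟩ := slopePart_isoclOn hτ F ν.1
    have hGb : Function.Bijective (F.restrict hs) := by
      refine ⟨fun x y e => Subtype.ext (hF.1 (congrArg Subtype.val e)), fun y => ?_⟩
      obtain ⟨x, hx⟩ := hF.2 (y : N)
      exact ⟨⟨x, mem_of_map_mem hF hs (hx ▸ y.2)⟩, Subtype.ext hx⟩
    have hall : ∀ α ∈ R ν, α ≠ 0 ∧ HasSlope (p := p) (k := k) m ν.1 α := fun α hα =>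
      hasSlope_of_isoclinic hτ hGb ((isIsoclinic_restrict_iff hs).mpr hi) m
        (f := π.restrict (hVπ ν)) (fun x => Subtype.ext ((hπ x).trans
          (intertwine_iterate (F := F.restrict hs) (F₂ := F) (f := (V ν).subtype) (fun _ => rfl) m x).symm)) hα
    split_ifs with h
    · rw [Multiset.countP_eq_card.mpr fun α hα => h ▸ (hall α hα).2, hR]
      simp only
      rw [← (IsAlgClosed.splits _).natDegree_eq_card_roots,
        Polynomial.natDegree_map, LinearMap.charpoly_natDegree]
      rfl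
    · exact Multiset.countP_eq_zero.mpr fun α hα hμ =>
        h (hasSlope_unique hm (hall α hα).1 (hall α hα).2 hμ)
  rw [Finset.sum_congr rfl fun ν _ => hpiece ν]
  by_cases h0 : _root_.Isoc.slopePart F μ = ⊥
  · rw [Finset.sum_eq_zero fun ν _ => if_neg fun e => ν.2 (by rw [e]; exact h0)]
    simp [_root_.Isoc.newtonMult, h0]
  · rw [Finset.sum_eq_single (⟨μ, h0⟩ : S) (fun ν _ hν => if_neg fun e => hν (Subtype.ext e))
      (fun hn => absurd (Finset.mem_univ _) hn), if_pos rfl]

end GrothLib.Isoc
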