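import Groth.Agent.Lib.Isoc.Isoclinic
import Mathlib.LinearAlgebra.DirectSum.Finsupp
import Mathlib.Algebra.DirectSum.Module
import Mathlib.RingTheory.AdicCompletion.Basic

/-!
# The slope decomposition
-/

set_option autoImplicit false

noncomputable section

namespace GrothLib.Isoc

open scoped Isocrystal Pointwise

universe u v

variable {p : ℕ} [Fact p.Prime] {k : Type u} [Field k] [CharP k p]
variable {N : Type v} [AddCommGroup N] [Module (WittVector p k) N]
  [Module (FractionRing (WittVector p k)) N]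
  [IsScalarTower (WittVector p k) (FractionRing (WittVector p k)) N]
variable {τ : FractionRing (WittVector p k) →+* FractionRing (WittVector p k)}

theorem smul_mem_pPow {l : FractionRing (WittVector p k)} {r a : ℤ}
    (hl : _root_.Isoc.IsOrdP (p := p) (k := k) l r) {M : Submodule (WittVector p k) N} {y : N}
    (hy : y ∈ _root_.Isoc.pPow a M) : l • y ∈ _root_.Isoc.pPow (r + a) M := by
  obtain ⟨u, rfl⟩ := hl
  rw [mem_pPow] at hy ⊢
  rw [smul_smul, show (p : FractionRing (WittVector p k)) ^ (-(r + a)) *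
      ((p : FractionRing (WittVector p k)) ^ r *
        algebraMap (WittVector p k) (FractionRing (WittVector p k)) (u : WittVector p k)) =
      algebraMap (WittVector p k) (FractionRing (WittVector p k)) (u : WittVector p k) *
        (p : FractionRing (WittVector p k)) ^ (-a) by
      rw [← mul_assoc, ← zpow_add₀ (pne (p := p) (k := k)), mul_comm]; congr 2; ring,
    mul_smul, aL_smul]
  exact M.smul_mem _ hy

variable [PerfectRing k p]

/-- A lattice is complete for the powers of `p`. -/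
theorem exists_limit [Module.Finite (FractionRing (WittVector p k)) N]
    {M : Submodule (WittVector p k) N} (hM : M.IsLattice (FractionRing (WittVector p k)))
    (y : ℕ → N) (hy : ∀ n, y n ∈ M) (hd : ∀ n : ℕ, y (n + 1) - y n ∈ _root_.Isoc.pPow (n : ℤ) M) :
    ∃ u ∈ M, ∀ n : ℕ, u - y n ∈ _root_.Isoc.pPow (n : ℤ) M := by
  obtain ⟨c, hc, -, hiff⟩ :=
    exists_lattice_basis hM (Module.finBasis (FractionRing (WittVector p k)) N)
  choose w hw using fun n i => (hiff _).mp (hy n) i
  have hstep : ∀ n i, (p : WittVector p k) ^ n ∣ w (n + 1) i - w n i := by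
    intro n i
    obtain ⟨z, hz⟩ := (hiff _).mp (mem_pPow.mp (hd n)) i
    refine ⟨z, IsFractionRing.injective (WittVector p k) (FractionRing (WittVector p k)) ?_⟩
    rw [map_sub, map_mul, map_pow, map_natCast, hz, hw, hw, map_smul, Finsupp.smul_apply,
      map_sub, Finsupp.sub_apply, smul_eq_mul, ← mul_assoc, ← zpow_natCast,
      ← zpow_add₀ (pne (p := p) (k := k)), add_neg_cancel, zpow_zero, one_mul]
  have hchain : ∀ i {m n : ℕ}, m ≤ n → (p : WittVector p k) ^ m ∣ w n i - w m i := by
    intro i m n h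
    induction h with
    | refl => simp
    | step h ih =>
      rename_i n'
      have := dvd_add ((pow_dvd_pow _ h).trans (hstep n' i)) ih
      simpa [Nat.succ_eq_add_one] using this
  have hlim : ∀ i, ∃ L : WittVector p k, ∀ n, (p : WittVector p k) ^ n ∣ w n i - L := by
    intro i
    have hpre : IsPrecomplete (Ideal.span {(p : WittVector p k)}) (WittVector p k) := inferInstance
    obtain ⟨L, hL⟩ := hpre.prec (f := fun n => w n i) (fun {m n} h => SModEq.sub_mem.mpr (by
      rw [smul_eq_mul, Ideal.mul_top, Ideal.span_singleton_pow, Ideal.mem_span_singleton,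
        ← dvd_neg, neg_sub]
      exact hchain i h))
    refine ⟨L, fun n => ?_⟩
    have := SModEq.sub_mem.mp (hL n)
    rwa [smul_eq_mul, Ideal.mul_top, Ideal.span_singleton_pow, Ideal.mem_span_singleton] at this
  choose L hL using hlim
  refine ⟨∑ i, L i • c i, sum_mem fun i _ => M.smul_mem _ (hc i), fun n => ?_⟩
  choose z hz using fun i => hL i n
  have e : ∑ i, L i • c i - y n = (p : WittVector p k) ^ n • -∑ i, z i • c i := by
    have : y n = ∑ i, w n i • c i := by
      conv_lhs => rw [← c.sum_repr (y n)]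
      exact Finset.sum_congr rfl fun i _ => by rw [← hw, aL_smul]
    rw [this, smul_neg, Finset.smul_sum, ← Finset.sum_sub_distrib, ← Finset.sum_neg_distrib]
    refine Finset.sum_congr rfl fun i _ => ?_
    rw [smul_smul, ← hz i, sub_smul, neg_sub]
  rw [e, mem_pPow, ← p_smul_eq, smul_smul, ← zpow_add₀ (pne (p := p) (k := k)), neg_add_cancel,
    zpow_zero, one_smul]
  exact neg_mem (sum_mem fun i _ => M.smul_mem _ (hc i))

/-- A lattice-image absorbs a power of `p`. -/
theorem mem_latImg_of_forall (hτ : Adm p k τ) {G : N →ₛₗ[τ] N} (hG : Function.Bijective G)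
    {M : Submodule (WittVector p k) N} (hM : M.IsLattice (FractionRing (WittVector p k))) {j : ℕ}
    {u : N} (hu : ∀ m : ℕ, ∃ z ∈ _root_.Isoc.latImg G j M, u - z ∈ _root_.Isoc.pPow (m : ℤ) M) :
    u ∈ _root_.Isoc.latImg G j M := by
  obtain ⟨c, hc⟩ := exists_pPow_le_lattice (isLattice_latImg hτ hG j hM) hM.fg
  obtain ⟨z, hz, hz'⟩ := hu c
  simpa using add_mem (hc hz') hz

/-- The stable core of an effective isocrystal. -/
def core (G : N →ₛₗ[τ] N) (M : Submodule (WittVector p k) N) : Submodule (WittVector p k) N :=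
  ⨅ n : ℕ, _root_.Isoc.latImg G n M

omit [PerfectRing k p] in
theorem core_le (G : N →ₛₗ[τ] N) (M : Submodule (WittVector p k) N) : core G M ≤ M :=
  (iInf_le _ 0).trans (latImg_zero M G).le

omit [PerfectRing k p] in
theorem latImg_anti (hτ : Adm p k τ) {G : N →ₛₗ[τ] N} {M : Submodule (WittVector p k) N}
    (heff : _root_.Isoc.latImg G 1 M ≤ M) {i j : ℕ} (hij : i ≤ j) :
    _root_.Isoc.latImg G j M ≤ _root_.Isoc.latImg G i M := by
  obtain ⟨t, rfl⟩ := Nat.le.dest hij
  rw [latImg_add hτ]
  refine latImg_mono ?_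
  have := latImg_mul_le hτ (r := 0) (by rwa [pPow_zero]) t (F := G) (s := 1)
  rwa [mul_one, mul_zero, pPow_zero] at this

omit [PerfectRing k p] in
theorem latImg_core (hτ : Adm p k τ) {G : N →ₛₗ[τ] N} (hG : Function.Injective G)
    {M : Submodule (WittVector p k) N} (heff : _root_.Isoc.latImg G 1 M ≤ M) :
    _root_.Isoc.latImg G 1 (core G M) = core G M := by
  refine le_antisymm (le_iInf fun n => ?_) fun x hx => ?_
  · refine (latImg_mono (iInf_le _ n)).trans ?_
    rw [← latImg_add hτ]
    exact latImg_anti hτ heff (by omega)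
  · rw [core, Submodule.mem_iInf] at hx
    obtain ⟨y, -, hy⟩ := (mem_latImg hτ).mp (hx 1)
    refine (mem_latImg hτ).mpr ⟨y, ?_, hy⟩
    rw [core, Submodule.mem_iInf]
    intro n
    obtain ⟨z, hz, hz'⟩ := (mem_latImg hτ).mp (hx (1 + n))
    rw [Function.iterate_add_apply, ← hy] at hz'
    exact (hG.iterate 1 hz') ▸ (mem_latImg hτ).mpr ⟨z, hz, rfl⟩

theorem exists_stab (hτ : Adm p k τ) {G : N →ₛₗ[τ] N}
    [Module.Finite (FractionRing (WittVector p k)) N] {M : Submodule (WittVector p k) N}
    (hM : M.IsLattice (FractionRing (WittVector p k))) (heff : _root_.Isoc.latImg G 1 M ≤ M) :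
    ∃ J : ℕ, ∀ j, _root_.Isoc.latImg G J M ≤ _root_.Isoc.latImg G j M ⊔ _root_.Isoc.pPow 1 M := by
  obtain ⟨h, hh⟩ : ∃ h, Module.finrank (FractionRing (WittVector p k)) N = h := ⟨_, rfl⟩
  have hpM : _root_.Isoc.pPow 1 M ≤ M := by
    simpa [pPow_zero] using pPow_anti (zero_le_one : (0 : ℤ) ≤ 1) M
  have hGp : _root_.Isoc.latImg G 1 (_root_.Isoc.pPow 1 M) ≤ _root_.Isoc.pPow 1 M := by
    rw [latImg_pPow hτ]; exact pPow_mono heff
  obtain ⟨i, hi⟩ : ∃ i, _root_.Isoc.latImg G i M ≤
      _root_.Isoc.latImg G (i + 1) M ⊔ _root_.Isoc.pPow 1 M := by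
    by_cases hnot : _root_.Isoc.latImg G h M ≤ _root_.Isoc.pPow 1 M
    · exact ⟨h, le_sup_of_le_right hnot⟩
    obtain ⟨j, hj, hle⟩ := exists_chain_eq hM (Module.finBasisOfFinrankEq _ _ hh)
      (fun j => _root_.Isoc.latImg G (h - j) M ⊔ _root_.Isoc.pPow 1 M)
      (fun j _ => sup_le (by simpa [latImg_zero] using latImg_anti hτ heff (Nat.zero_le (h - j))) hpM)
      (fun j _ => le_sup_right)
      (fun j _ => sup_le_sup_right (latImg_anti hτ heff (by omega)) _)
      (fun hle => hnot (le_sup_left.trans hle))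
    refine ⟨h - (j + 1), le_sup_left.trans (hle.trans ?_)⟩
    rw [show h - (j + 1) + 1 = h - j by omega]
  have hstab : ∀ t, _root_.Isoc.latImg G i M ≤
      _root_.Isoc.latImg G (i + t) M ⊔ _root_.Isoc.pPow 1 M := by
    intro t
    induction t with
    | zero => exact le_sup_left
    | succ t ih =>
      refine hi.trans (sup_le ?_ le_sup_right)
      rw [add_comm i 1, latImg_add hτ]
      refine (latImg_mono ih).trans ?_
      rw [latImg_sup₂ hτ, ← latImg_add hτ, show i + (t + 1) = 1 + (i + t) by ring]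
      exact sup_le_sup_left hGp _
  exact ⟨i, fun j => (hstab j).trans (sup_le_sup_right (latImg_anti hτ heff (by omega)) _)⟩

theorem exists_core_approx (hτ : Adm p k τ) {G : N →ₛₗ[τ] N} (hG : Function.Bijective G)
    [Module.Finite (FractionRing (WittVector p k)) N] {M : Submodule (WittVector p k) N}
    (hM : M.IsLattice (FractionRing (WittVector p k))) (heff : _root_.Isoc.latImg G 1 M ≤ M) :
    ∃ J : ℕ, ∀ z ∈ _root_.Isoc.latImg G J M, ∃ v ∈ core G M,
      z - v ∈ _root_.Isoc.pPow 1 M := by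
  obtain ⟨J, hJ⟩ := exists_stab hτ hM heff
  refine ⟨J, fun z hz => ?_⟩
  have hpow : ∀ m j : ℕ, _root_.Isoc.latImg G (m * J) M ≤
      _root_.Isoc.latImg G j M ⊔ _root_.Isoc.pPow (m : ℤ) M := by
    intro m
    induction m with
    | zero => intro j; rw [Nat.zero_mul, latImg_zero, Nat.cast_zero, pPow_zero]; exact le_sup_right
    | succ m ih =>
      intro j
      rw [Nat.succ_mul, add_comm, latImg_add hτ]
      refine (latImg_mono (ih j)).trans ?_
      rw [latImg_sup₂ hτ, latImg_pPow hτ]
      refine sup_le (le_sup_of_le_left ?_) ?_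
      · rw [← latImg_add hτ]; exact latImg_anti hτ heff (by omega)
      · refine (pPow_mono (hJ j)).trans ?_
        rw [pPow_sup₂, pPow_pPow, ← Nat.cast_succ]
        refine sup_le_sup_right ?_ _
        simpa [pPow_zero] using pPow_anti (Int.natCast_nonneg m) (_root_.Isoc.latImg G j M)
  have hstep : ∀ (m : ℕ) (y : N), y ∈ _root_.Isoc.latImg G ((m + 1) * J) M →
      ∃ y' ∈ _root_.Isoc.latImg G ((m + 2) * J) M, y' - y ∈ _root_.Isoc.pPow ((m + 1 : ℕ) : ℤ) M := by
    intro m y hy
    obtain ⟨a, ha, b, hb, hab⟩ := Submodule.mem_sup.mp (hpow (m + 1) ((m + 2) * J) hy)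
    exact ⟨a, ha, by rw [← hab, sub_add_cancel_left]; exact neg_mem hb⟩
  choose! f hf hf' using hstep
  let y : ℕ → N := fun n => Nat.rec z (fun m ym => f m ym) n
  have hy : ∀ n, y n ∈ _root_.Isoc.latImg G ((n + 1) * J) M := by
    intro n
    induction n with
    | zero => simpa [y] using hz
    | succ n ih => exact hf n _ ih
  have hyd : ∀ n, y (n + 1) - y n ∈ _root_.Isoc.pPow ((n + 1 : ℕ) : ℤ) M := fun n => hf' n _ (hy n)
  obtain ⟨u, -, hu⟩ := exists_limit hM y
    (fun n => (latImg_zero M G) ▸ latImg_anti hτ heff (Nat.zero_le _) (hy n))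
    (fun n => pPow_anti (by push_cast; omega) M (hyd n))
  refine ⟨u, ?_, ?_⟩
  · rw [core, Submodule.mem_iInf]
    intro j
    refine mem_latImg_of_forall hτ hG hM fun m => ?_
    obtain ⟨a, ha, b, hb, hab⟩ := Submodule.mem_sup.mp (hpow (m + 1) j (hy m))
    refine ⟨a, ha, ?_⟩
    rw [show u - a = (u - y m) + b by rw [← hab]; abel]
    exact add_mem (hu m) (pPow_anti (by push_cast; omega) M hb)
  · have h1 : y 1 - z ∈ _root_.Isoc.pPow 1 M := by simpa [y] using hyd 0
    have h2 : u - y 1 ∈ _root_.Isoc.pPow 1 M := by simpa using hu 1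
    rw [show z - u = -((u - y 1) + (y 1 - z)) by abel]
    exact neg_mem (add_mem h2 h1)

theorem exists_core_decomp (hτ : Adm p k τ) {G : N →ₛₗ[τ] N} (hG : Function.Bijective G)
    [Module.Finite (FractionRing (WittVector p k)) N] {M : Submodule (WittVector p k) N}
    (hM : M.IsLattice (FractionRing (WittVector p k))) (heff : _root_.Isoc.latImg G 1 M ≤ M)
    {x : N} (hx : x ∈ M) :
    ∃ u ∈ core G M, ∀ c : ℕ, ∃ n : ℕ, (⇑G)^[n] (x - u) ∈ _root_.Isoc.pPow (c : ℤ) M := by
  obtain ⟨J, hJ⟩ := exists_core_approx hτ hG hM heff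
  have hU : ∀ t, _root_.Isoc.latImg G t (core G M) = core G M := fun t => by
    simpa [pPow_zero] using latImg_mul_eq hτ (s := 1) (r := 0) (M := core G M)
      (by rw [pPow_zero]; exact latImg_core hτ hG.1 heff) t
  have hstep : ∀ (m : ℕ) (u : N), u ∈ core G M →
      (⇑G)^[m * J] (x - u) ∈ _root_.Isoc.pPow (m : ℤ) M →
      ∃ u' ∈ core G M, u' - u ∈ _root_.Isoc.pPow (m : ℤ) M ∧
        (⇑G)^[(m + 1) * J] (x - u') ∈ _root_.Isoc.pPow ((m + 1 : ℕ) : ℤ) M := by
    intro m u hu hm
    set y := (p : FractionRing (WittVector p k)) ^ (-(m : ℤ)) • (⇑G)^[m * J] (x - u) with hy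
    obtain ⟨v, hv, hv'⟩ := hJ ((⇑G)^[J] y) (Submodule.subset_span ⟨y, mem_pPow.mp hm, rfl⟩)
    obtain ⟨v', hv'', hvv⟩ := (mem_latImg hτ).mp ((hU ((m + 1) * J)).symm ▸ hv :
      v ∈ _root_.Isoc.latImg G ((m + 1) * J) (core G M))
    refine ⟨u + (p : WittVector p k) ^ m • v', add_mem hu ((core G M).smul_mem _ hv''), ?_, ?_⟩
    · rw [add_sub_cancel_left, mem_pPow, ← p_smul_eq, smul_smul,
        ← zpow_add₀ (pne (p := p) (k := k)), neg_add_cancel, zpow_zero, one_smul]
      exact core_le G M hv''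
    · have e : (⇑G)^[(m + 1) * J] (x - (u + (p : WittVector p k) ^ m • v')) =
          (p : FractionRing (WittVector p k)) ^ (m : ℤ) • ((⇑G)^[J] y - v) := by
        have h1 : x - u = (x - (u + (p : WittVector p k) ^ m • v')) + (p : WittVector p k) ^ m • v' := by
          abel
        have h2 : (⇑G)^[J] y = (p : FractionRing (WittVector p k)) ^ (-(m : ℤ)) •
            (⇑G)^[(m + 1) * J] (x - u) := by
          rw [hy, iterate_pz, ← Function.iterate_add_apply, show J + m * J = (m + 1) * J by ring]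
        rw [h2, h1, iterate_add', ← p_smul_eq, iterate_pz, hvv, smul_sub, smul_smul,
          ← zpow_add₀ (pne (p := p) (k := k)), add_neg_cancel, zpow_zero, one_smul,
          add_sub_cancel_right]
      rw [e, Nat.cast_succ, ← pPow_pPow, mem_pPow, smul_smul, ← zpow_add₀ (pne (p := p) (k := k)),
        neg_add_cancel, zpow_zero, one_smul]
      exact hv'
  choose! f hf hfd hfG using hstep
  let us : ℕ → N := fun n => Nat.rec 0 (fun m um => f m um) n
  have hus : ∀ n, us n ∈ core G M ∧ (⇑G)^[n * J] (x - us n) ∈ _root_.Isoc.pPow (n : ℤ) M := by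
    intro n
    induction n with
    | zero => exact ⟨zero_mem _, by simpa [us, pPow_zero] using hx⟩
    | succ n ih => exact ⟨hf n _ ih.1 ih.2, hfG n _ ih.1 ih.2⟩
  obtain ⟨u, -, hu⟩ := exists_limit hM us (fun n => core_le G M (hus n).1)
    (fun n => hfd n _ (hus n).1 (hus n).2)
  refine ⟨u, ?_, fun c => ⟨c * J, ?_⟩⟩
  · rw [core, Submodule.mem_iInf]
    intro j
    refine mem_latImg_of_forall hτ hG hM fun m => ⟨us m, ?_, hu m⟩
    exact (iInf_le _ j : core G M ≤ _) (hus m).1
  · rw [show x - u = (x - us c) + -(u - us c) by abel, iterate_add']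
    refine add_mem (hus c).2 ?_
    have : _root_.Isoc.latImg G (c * J) (_root_.Isoc.pPow (c : ℤ) M) ≤ _root_.Isoc.pPow (c : ℤ) M := by
      rw [latImg_pPow hτ]
      exact pPow_mono (by simpa [latImg_zero] using latImg_anti hτ heff (Nat.zero_le (c * J)))
    exact latImg_le_iff.mp this _ (neg_mem (hu c))

/-- The topologically nilpotent subspace. -/
def nilPart (hτ : Adm p k τ) (G : N →ₛₗ[τ] N) (M : Submodule (WittVector p k) N)
    (heff : _root_.Isoc.latImg G 1 M ≤ M) : Submodule (FractionRing (WittVector p k)) N where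
  carrier := {x | ∀ c : ℕ, ∃ n : ℕ, (⇑G)^[n] x ∈ _root_.Isoc.pPow (c : ℤ) M}
  zero_mem' c := ⟨0, by simp⟩
  add_mem' {a b} ha hb c := by
    obtain ⟨n, hn⟩ := ha c
    obtain ⟨m, hm⟩ := hb c
    have key : ∀ t, _root_.Isoc.latImg G t (_root_.Isoc.pPow (c : ℤ) M) ≤
        _root_.Isoc.pPow (c : ℤ) M := fun t => by
      rw [latImg_pPow hτ]
      exact pPow_mono (by simpa [latImg_zero] using latImg_anti hτ heff (Nat.zero_le t))
    refine ⟨n + m, ?_⟩
    rw [iterate_add']
    refine add_mem ?_ ?_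
    · rw [add_comm n m, Function.iterate_add_apply]
      exact latImg_le_iff.mp (key m) _ hn
    · rw [Function.iterate_add_apply]
      exact latImg_le_iff.mp (key n) _ hm
  smul_mem' l x hx c := by
    rcases eq_or_ne l 0 with rfl | hl
    · exact ⟨0, by simp⟩
    obtain ⟨r, hr⟩ := exists_isOrdP (p := p) (k := k) hl
    obtain ⟨n, hn⟩ := hx (c + (-r).toNat)
    refine ⟨n, ?_⟩
    rw [iterate_smul]
    refine pPow_anti ?_ M (smul_mem_pPow (isOrdP_map (hτ.pow n) hr) hn)
    push_cast
    omega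

theorem exists_split (hτ : Adm p k τ) {F : N →ₛₗ[τ] N} (hF : Function.Bijective F)
    [Module.Finite (FractionRing (WittVector p k)) N] [Nontrivial N] :
    ∃ (μ : ℚ) (V K : Submodule (FractionRing (WittVector p k)) N),
      (∀ x ∈ V, F x ∈ V) ∧ IsoclOn F V μ ∧ (∀ x ∈ K, F x ∈ K) ∧ V ⊔ K = ⊤ ∧ K ≠ ⊤ := by
  obtain ⟨M₀, hM₀⟩ : ∃ M : Submodule (WittVector p k) N,
      M.IsLattice (FractionRing (WittVector p k)) := by
    refine ⟨Submodule.span (WittVector p k)
      (Set.range (Module.finBasis (FractionRing (WittVector p k)) N)),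
      ⟨Submodule.fg_span (Set.finite_range _), ?_⟩⟩
    rw [Submodule.span_span_of_tower, Module.Basis.span_eq]
  obtain ⟨o, ho, lam, ht⟩ := exists_ord_seq hτ hF hM₀
  obtain ⟨r, s, M, hs, -, hlam, hM, hord⟩ :=
    exists_slope_eq_div hτ hF ⟨M₀, hM₀, o, fun n _ => ho n, ht⟩ (h := _) rfl
  have hl : _root_.Isoc.IsFirstSlope F lam := ⟨M₀, hM₀, o, fun n _ => ho n, ht⟩
  set G := tw F r s with hGdef
  have hτs := hτ.pow s
  have heff : _root_.Isoc.latImg G 1 M ≤ M := (latImg_le_pPow_iff hτ F r s M).mp hord.1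
  have hGb := tw_bijective hτ hF r s
  have hcomm : ∀ n x, (⇑G)^[n] (F x) = F ((⇑G)^[n] x) := by
    intro n x
    rw [hGdef, tw_iterate, tw_iterate, map_pz]
    congr 1
    exact (Function.iterate_succ_apply _ _ _).symm.trans (Function.iterate_succ_apply' _ _ _)
  obtain ⟨c₀, hc₀⟩ := exists_pPow_le_lattice hM (fg_latImg hτ F 1 hM.fg)
  have hFM : ∀ (c : ℤ) y, y ∈ _root_.Isoc.pPow c M → F y ∈ _root_.Isoc.pPow (c - c₀) M := by
    intro c y hy
    rw [mem_pPow] at hy ⊢
    have h2 : (p : FractionRing (WittVector p k)) ^ (c₀ : ℤ) •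
        F ((p : FractionRing (WittVector p k)) ^ (-c) • y) ∈
        _root_.Isoc.pPow (c₀ : ℤ) (_root_.Isoc.latImg F 1 M) := by
      rw [mem_pPow, smul_smul, ← zpow_add₀ (pne (p := p) (k := k)), neg_add_cancel, zpow_zero,
        one_smul]
      exact Submodule.subset_span ⟨_, hy, rfl⟩
    rw [map_pz, smul_smul, ← zpow_add₀ (pne (p := p) (k := k))] at h2
    convert hc₀ h2 using 3
    ring
  set K := nilPart hτs G M heff with hK
  set U := core G M with hUdef
  refine ⟨(r : ℚ) / s, Submodule.span (FractionRing (WittVector p k)) (U : Set N), K, ?_,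
    ⟨U, fg_of_le hM.fg (core_le G M), rfl, r, s, hs, rfl, ?_⟩, ?_, ?_, ?_⟩
  · intro x hx
    induction hx using Submodule.span_induction with
    | mem x hx =>
      have hmem : (p : FractionRing (WittVector p k)) ^ (c₀ : ℤ) • F x ∈ U := by
        rw [hUdef, core, Submodule.mem_iInf]
        intro n
        obtain ⟨y, hy, rfl⟩ := (mem_latImg hτs).mp ((iInf_le _ n : U ≤ _) hx)
        refine (mem_latImg hτs).mpr ⟨(p : FractionRing (WittVector p k)) ^ (c₀ : ℤ) • F y, ?_, ?_⟩
        · have := mem_pPow.mp (hFM 0 y (by rwa [pPow_zero]))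
          simpa using this
        · rw [iterate_pz, hcomm]
      have := Submodule.smul_mem (Submodule.span (FractionRing (WittVector p k)) (U : Set N))
        ((p : FractionRing (WittVector p k)) ^ (-(c₀ : ℤ))) (Submodule.subset_span hmem)
      rwa [smul_smul, ← zpow_add₀ (pne (p := p) (k := k)), neg_add_cancel, zpow_zero, one_smul] at this
    | zero => simp
    | add a b _ _ ha hb => rw [map_add]; exact add_mem ha hb
    | smul l a _ ha => rw [map_smulₛₗ]; exact Submodule.smul_mem _ _ ha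
  · exact (latImg_eq_pPow_iff hτ F r s U).mpr (latImg_core hτs hGb.1 heff)
  · intro x hx c
    obtain ⟨n, hn⟩ := hx (c + c₀)
    refine ⟨n, ?_⟩
    rw [hcomm]
    refine pPow_anti ?_ M (hFM _ _ hn)
    push_cast
    omega
  · rw [eq_top_iff, ← hM.span_eq_top]
    refine Submodule.span_le.mpr fun x hx => ?_
    obtain ⟨u, hu, hk⟩ := exists_core_decomp hτs hGb hM heff hx
    rw [show x = u + (x - u) by abel]
    exact add_mem (Submodule.mem_sup_left (Submodule.subset_span hu)) (Submodule.mem_sup_right hk)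
  · intro htop
    obtain ⟨g, hg⟩ := hM.fg
    have hK1 : ∀ x : N, ∃ n : ℕ, (⇑G)^[n] x ∈ _root_.Isoc.pPow (1 : ℤ) M := fun x => by
      simpa using (htop ▸ Submodule.mem_top : x ∈ K) 1
    choose n hn using hK1
    have hle : _root_.Isoc.latImg G (g.sup n + 1) M ≤ _root_.Isoc.pPow 1 M := by
      rw [latImg_le_iff]
      intro y hy
      rw [← hg] at hy
      induction hy using Submodule.span_induction with
      | mem x hx =>
        obtain ⟨t, ht'⟩ := Nat.le.dest (show n x ≤ g.sup n + 1 from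
          (Finset.le_sup (f := n) hx).trans (Nat.le_succ _))
        rw [← ht', add_comm, Function.iterate_add_apply]
        have : _root_.Isoc.latImg G t (_root_.Isoc.pPow 1 M) ≤ _root_.Isoc.pPow 1 M := by
          rw [latImg_pPow hτs]
          exact pPow_mono (by simpa [latImg_zero] using latImg_anti hτs heff (Nat.zero_le t))
        exact latImg_le_iff.mp this _ (hn x)
      | zero => rw [iterate_zero']; exact zero_mem _
      | add a b _ _ ha hb => rw [iterate_add']; exact add_mem ha hb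
      | smul w a _ ha =>
        obtain ⟨w', hw⟩ := exists_iterate_wsmul hτs G (g.sup n + 1) w
        rw [hw]; exact Submodule.smul_mem _ _ ha
    have hsl : _root_.Isoc.IsFirstSlope G ((s : ℝ) * lam + ((-r : ℤ) : ℝ)) :=
      isFirstSlope_smul_iter hτ hF hl (-r) s
    have := le_slope_of_latImg_le hτs hGb hsl hM (Nat.succ_pos _) hle
    rw [hlam, mul_div_cancel₀ _ (by exact_mod_cast hs.ne'), Int.cast_neg, add_neg_cancel] at this
    have h2 : (0 : ℝ) < ((1 : ℤ) : ℝ) / ((g.sup n + 1 : ℕ) : ℝ) := by positivity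
    linarith

theorem le_iSup_slopePart (hτ : Adm p k τ) {F : N →ₛₗ[τ] N} (hF : Function.Bijective F)
    [Module.Finite (FractionRing (WittVector p k)) N] (n : ℕ) :
    ∀ P : Submodule (FractionRing (WittVector p k)) N,
      Module.finrank (FractionRing (WittVector p k)) P ≤ n → (∀ x ∈ P, F x ∈ P) →
      P ≤ ⨆ μ : ℚ, _root_.Isoc.slopePart F μ := by
  induction n with
  | zero =>
    intro P hP _
    rw [Nat.le_zero, Submodule.finrank_eq_zero] at hP
    simp [hP]
  | succ n ih =>
    intro P hP hPs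
    rcases eq_or_ne P ⊥ with rfl | hne
    · simp
    have : Nontrivial P := Submodule.nontrivial_iff_ne_bot.mpr hne
    have hb : Function.Bijective (F.restrict hPs) := by
      refine ⟨fun a b h => Subtype.ext (hF.1 (congrArg Subtype.val h)), fun y => ?_⟩
      obtain ⟨x, hx⟩ := hF.2 (y : N)
      exact ⟨⟨x, mem_of_map_mem hF hPs (hx ▸ y.2)⟩, Subtype.ext hx⟩
    obtain ⟨μ, V, K, hV, hVi, hKs, hsup, hK⟩ := exists_split hτ hb
    have hf : ∀ x : P, P.subtype (F.restrict hPs x) = F (P.subtype x) := fun _ => rfl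
    have htop : (⊤ : Submodule (FractionRing (WittVector p k)) P).map P.subtype = P := by simp
    rw [← htop, ← hsup, Submodule.map_sup]
    refine sup_le ((le_slopePart F ?_ (hVi.map hf)).trans (le_iSup _ μ)) (ih _ ?_ ?_)
    · rintro _ ⟨x, hx, rfl⟩
      exact ⟨_, hV x hx, hf x⟩
    · rw [Submodule.finrank_map_subtype_eq]
      have := Submodule.finrank_lt hK
      omega
    · rintro _ ⟨x, hx, rfl⟩
      exact ⟨_, hKs x hx, hf x⟩

theorem iSup_slopePart (hτ : Adm p k τ) {F : N →ₛₗ[τ] N} (hF : Function.Bijective F)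
    [Module.Finite (FractionRing (WittVector p k)) N] :
    (⨆ μ : ℚ, _root_.Isoc.slopePart F μ) = ⊤ :=
  top_le_iff.mp (le_iSup_slopePart hτ hF _ ⊤ le_rfl fun _ _ => trivial)

theorem disjoint_finset (hτ : Adm p k τ) {F : N →ₛₗ[τ] N} (hF : Function.Bijective F)
    [Module.Finite (FractionRing (WittVector p k)) N] (S : Finset ℚ) :
    ∀ μ ∉ S, Disjoint (_root_.Isoc.slopePart F μ) (⨆ ν ∈ S, _root_.Isoc.slopePart F ν) := by
  classical
  induction S using Finset.induction_on with
  | empty => intro μ _; simp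
  | insert ν S hν ih =>
    intro μ hμ
    rw [Finset.mem_insert, not_or] at hμ
    rw [Finset.iSup_insert]
    set R := ⨆ ν' ∈ S, _root_.Isoc.slopePart F ν' with hR
    have hsl := fun μ => slopePart_isoclOn hτ F μ
    have hRs : R ≤ R.comap F := by
      refine iSup₂_le fun ν' hν' x hx => ?_
      exact (le_iSup₂ (f := fun ν'' (_ : ν'' ∈ S) => _root_.Isoc.slopePart F ν'') ν' hν')
        ((hsl ν').1 x hx)
    set X := _root_.Isoc.slopePart F μ ⊓ (_root_.Isoc.slopePart F ν ⊔ R) with hX
    have hXs : ∀ x ∈ X, F x ∈ X := by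
      rintro x ⟨h1, h2⟩
      refine ⟨(hsl μ).1 x h1, ?_⟩
      obtain ⟨a, ha, b, hb, rfl⟩ := Submodule.mem_sup.mp h2
      rw [map_add]
      exact add_mem (Submodule.mem_sup_left ((hsl ν).1 a ha)) (Submodule.mem_sup_right (hRs hb))
    have hXi : IsoclOn F X μ := (hsl μ).2.inter hτ hF hXs inf_le_left
    have hinj : Function.Injective (R.mapQ R F hRs) := by
      rw [injective_iff_map_eq_zero]
      intro y hy
      obtain ⟨x, rfl⟩ := R.mkQ_surjective y
      exact (Submodule.Quotient.mk_eq_zero R).mpr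
        (mem_of_map_mem hF hRs ((Submodule.Quotient.mk_eq_zero R).mp hy))
    have hf : ∀ x, R.mkQ (F x) = R.mapQ R F hRs (R.mkQ x) := fun x => rfl
    have hle : X.map R.mkQ ≤ (_root_.Isoc.slopePart F ν).map R.mkQ := by
      refine (Submodule.map_mono inf_le_right).trans ?_
      rw [Submodule.map_sup, Submodule.mkQ_map_self, sup_bot_eq]
    have hzero := eq_zero_of_isoclOn hτ hinj hf hXi ((hsl ν).2.map hf) hμ.1 hle
    rw [← LinearMap.le_ker_iff_map, Submodule.ker_mkQ] at hzero
    exact disjoint_iff_inf_le.mpr fun x hx =>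
      disjoint_iff_inf_le.mp (ih μ hμ.2) ⟨hx.1, hzero hx⟩

theorem iSupIndep_slopePart (hτ : Adm p k τ) {F : N →ₛₗ[τ] N} (hF : Function.Bijective F)
    [Module.Finite (FractionRing (WittVector p k)) N] :
    iSupIndep fun μ : ℚ => _root_.Isoc.slopePart F μ := by
  classical
  intro μ
  rw [disjoint_iff_inf_le]
  rintro x ⟨hx, hx'⟩
  rw [SetLike.mem_coe, iSup_subtype', Submodule.mem_iSup_iff_exists_finset] at hx'
  obtain ⟨S, hS⟩ := hx'
  have hd := disjoint_finset hτ hF (S.image Subtype.val) μ (by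
    rw [Finset.mem_image]
    rintro ⟨⟨ν, hν⟩, -, e⟩
    exact hν e)
  refine disjoint_iff_inf_le.mp hd ⟨hx, ?_⟩
  rw [Finset.iSup_finset_image]
  exact hS

theorem isInternal_slopePart (hτ : Adm p k τ) {F : N →ₛₗ[τ] N} (hF : Function.Bijective F)
    [Module.Finite (FractionRing (WittVector p k)) N] :
    DirectSum.IsInternal fun μ : ℚ => _root_.Isoc.slopePart F μ :=
  (DirectSum.isInternal_submodule_iff_iSupIndep_and_iSup_eq_top _).mpr
    ⟨iSupIndep_slopePart hτ hF, iSup_slopePart hτ hF⟩

theorem sum_slope_mul_eq (hτ : Adm p k τ) {F : N →ₛₗ[τ] N} (hF : Function.Bijective F)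
    [Module.Finite (FractionRing (WittVector p k)) N] {h : ℕ} {d : ℤ} (H : HasOrdDet F h d) :
    ∑ᶠ μ : ℚ, μ * (_root_.Isoc.newtonMult F μ : ℚ) = d := by
  classical
  set S := {μ : ℚ // _root_.Isoc.slopePart F μ ≠ ⊥}
  have : Fintype S := (iSupIndep_slopePart hτ hF).fintypeNeBotOfFiniteDimensional
  set V : S → Submodule (FractionRing (WittVector p k)) N := fun μ => _root_.Isoc.slopePart F μ.1
  have hV : DirectSum.IsInternal V := by
    refine (DirectSum.isInternal_submodule_iff_iSupIndep_and_iSup_eq_top _).mpr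
      ⟨(iSupIndep_slopePart hτ hF).comp Subtype.val_injective, ?_⟩
    rw [← iSup_slopePart hτ hF]
    exact iSup_ne_bot_subtype _
  choose M hfg hspan r s hs hμ e using fun μ : S => (slopePart_isoclOn hτ F μ.1).2
  set T : ℕ := ∏ μ, s μ with hT
  have hTdvd : ∀ μ, s μ ∣ T := fun μ => Finset.dvd_prod_of_mem s (Finset.mem_univ μ)
  choose q hq using hTdvd
  set R : S → ℤ := fun μ => r μ * q μ with hR
  have hR' : ∀ μ, _root_.Isoc.latImg F T (M μ) = _root_.Isoc.pPow (R μ) (M μ) := fun μ => by
    rw [hq μ]; exact isoclOn_common hτ (e μ) (q μ)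
  have hTpos : 0 < T := Finset.prod_pos fun μ _ => hs μ
  have hslope : ∀ μ : S, (R μ : ℚ) = T * μ.1 := fun μ => by
    rw [← hμ μ, hq μ, hR]
    have : (s μ : ℚ) ≠ 0 := by exact_mod_cast (hs μ).ne'
    push_cast
    field_simp
  let bb := fun μ => Module.finBasis (FractionRing (WittVector p k)) (V μ)
  let B := hV.collectedBasis bb
  set D : N →ₗ[FractionRing (WittVector p k)] N :=
    B.constr (FractionRing (WittVector p k))
      fun i => (p : FractionRing (WittVector p k)) ^ (-R i.1) • B i with hD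
  have hDV : ∀ μ, ∀ x ∈ V μ, D x = (p : FractionRing (WittVector p k)) ^ (-R μ) • x := by
    intro μ x hx
    have : x = ∑ j, (bb μ).repr ⟨x, hx⟩ j • B ⟨μ, j⟩ := by
      conv_lhs => rw [show x = ((⟨x, hx⟩ : V μ) : N) from rfl, ← (bb μ).sum_repr ⟨x, hx⟩,
        Submodule.coe_sum]
      exact Finset.sum_congr rfl fun j _ => by simp [B, bb]
    rw [this, map_sum, Finset.smul_sum]
    refine Finset.sum_congr rfl fun j _ => ?_
    rw [map_smul, hD, Module.Basis.constr_basis, smul_comm]
  have hdetD : LinearMap.det D =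
      (p : FractionRing (WittVector p k)) ^ (∑ i : Σ μ : S, Fin (Module.finrank (FractionRing (WittVector p k)) (V μ)), -R i.1) := by
    rw [← LinearMap.det_toMatrix B, show LinearMap.toMatrix B B D = Matrix.diagonal
      (fun i : Σ μ : S, Fin (Module.finrank (FractionRing (WittVector p k)) (V μ)) =>
        (p : FractionRing (WittVector p k)) ^ (-R i.1)) from ?_, Matrix.det_diagonal]
    · induction (Finset.univ : Finset (Σ μ : S, Fin (Module.finrank (FractionRing (WittVector p k)) (V μ)))) using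
        Finset.induction_on with
      | empty => simp
      | insert i t hi ih =>
        rw [Finset.prod_insert hi, Finset.sum_insert hi, zpow_add₀ (pne (p := p) (k := k)), ih]
    · ext i j
      rw [LinearMap.toMatrix_apply, hD, Module.Basis.constr_basis, map_smul, B.repr_self,
        Finsupp.smul_apply, Finsupp.single_apply, Matrix.diagonal_apply]
      by_cases hij : j = i <;> simp [hij, Ne.symm, eq_comm]
  obtain ⟨b, hb⟩ := H
  set G : N →ₛₗ[τ ^ T] N := D.comp (_root_.Isoc.iter F T) with hG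
  set ML : Submodule (WittVector p k) N := ⨆ μ, M μ with hMLdef
  have hML : ML.IsLattice (FractionRing (WittVector p k)) := by
    constructor
    · exact Submodule.fg_iSup _ hfg
    · rw [eq_top_iff, ← hV.submodule_iSup_eq_top]
      refine iSup_le fun μ => ?_
      show _root_.Isoc.slopePart F μ.1 ≤ _
      rw [← hspan μ]
      exact Submodule.span_mono (le_iSup M μ)
  have heq : _root_.Isoc.latImg G 1 ML = ML := by
    rw [hMLdef, latImg_sup (hτ.pow T)]
    refine iSup_congr fun μ => ?_
    have h1 : _root_.Isoc.latImg (tw F (R μ) T) 1 (M μ) = M μ :=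
      (latImg_eq_pPow_iff hτ F (R μ) T (M μ)).mp (hR' μ)
    conv_rhs => rw [← h1]
    rw [_root_.Isoc.latImg, _root_.Isoc.latImg]
    congr 1
    refine Set.image_congr fun x hx => ?_
    show D ((⇑F)^[T] x) = (p : FractionRing (WittVector p k)) ^ (-R μ) • (⇑F)^[T] x
    refine hDV μ _ (iterate_mem_of_stable (slopePart_isoclOn hτ F μ.1).1 T ?_)
    rw [← hspan μ]
    exact Submodule.subset_span hx
  obtain ⟨b', hb'⟩ := ordDet_iter hτ ⟨b, hb⟩ T
  have hGd : HasOrdDet G h ((∑ i : Σ μ : S, Fin (Module.finrank (FractionRing (WittVector p k)) (V μ)), -R i.1) + T * d) := by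
    refine ⟨b', ?_⟩
    have hsm : smat b' G = smat b' D * (smat b' (_root_.Isoc.iter F T)).map (RingHom.id _) :=
      smat_comp b' D (_root_.Isoc.iter F T)
    rw [hsm, Matrix.det_mul, RingHom.coe_id, Matrix.map_id,
      show smat b' D = LinearMap.toMatrix b' b' D from
        Matrix.ext fun i j => (LinearMap.toMatrix_apply b' b' D i j).symm,
      LinearMap.det_toMatrix, hdetD]
    exact isOrdP_mul (isOrdP_zpow _) hb'
  have hzero := (latImg_one_eq_iff (hτ.pow T) hGd hML heq.le).mp heq
  rw [Fintype.sum_sigma] at hzero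
  simp only [Finset.sum_const, Finset.card_univ, Fintype.card_fin, nsmul_eq_mul] at hzero
  have hq' : (T : ℚ) * ((∑ μ : S, μ.1 * (_root_.Isoc.newtonMult F μ.1 : ℚ)) - d) = 0 := by
    have := congrArg (fun z : ℤ => (z : ℚ)) hzero
    push_cast at this
    rw [mul_sub, Finset.mul_sum, sub_eq_zero]
    simp only [hslope] at this
    rw [show (∑ μ : S, (T : ℚ) * (μ.1 * (_root_.Isoc.newtonMult F μ.1 : ℚ))) =
      -(∑ μ : S, (Module.finrank (FractionRing (WittVector p k)) (V μ) : ℚ) * -((T : ℚ) * μ.1)) by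
        rw [← Finset.sum_neg_distrib]
        exact Finset.sum_congr rfl fun μ _ => by
          show _ = -((_root_.Isoc.newtonMult F μ.1 : ℚ) * _)
          ring]
    linarith
  have hT' : (T : ℚ) ≠ 0 := by exact_mod_cast hTpos.ne'
  have hfin := sub_eq_zero.mp ((mul_eq_zero.mp hq').resolve_left hT')
  rw [← hfin, finsum_eq_sum_of_support_subset _ (s := (Finset.univ : Finset S).image Subtype.val),
    Finset.sum_image fun a _ b _ e => Subtype.ext e]
  intro μ hμ'
  rw [Finset.coe_image, Finset.coe_univ, Set.image_univ, Subtype.range_coe_subtype, Set.mem_setOf_eq]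
  intro h0
  apply hμ'
  simp [_root_.Isoc.newtonMult, h0]

end GrothLib.Isoc
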