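import Groth.Agent.Lib.Isoc.Lattice
import Mathlib.LinearAlgebra.Matrix.Basis
import Mathlib.LinearAlgebra.Matrix.NonsingularInverse

/-!
# The order of the determinant and the orders of iterates
-/

set_option autoImplicit false

noncomputable section

namespace GrothLib.Isoc

open scoped Isocrystal Pointwise

universe u v

variable {p : ℕ} [Fact p.Prime] {k : Type u} [Field k] [CharP k p]
variable {N : Type v} [AddCommGroup N] [Module (WittVector p k) N]
  [Module (FractionRing (WittVector p k)) N]
  [IsScalarTower (WittVector p k) (FractionRing (WittVector p k)) N]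
variable {τ τ' : FractionRing (WittVector p k) →+* FractionRing (WittVector p k)}

/-- The matrix of a semilinear map. -/
def smat {n : ℕ} (b : Module.Basis (Fin n) (FractionRing (WittVector p k)) N) (f : N → N) :
    Matrix (Fin n) (Fin n) (FractionRing (WittVector p k)) :=
  Matrix.of fun i j => b.repr (f (b j)) i

omit [Module (WittVector p k) N] [IsScalarTower (WittVector p k) (FractionRing (WittVector p k)) N] in
theorem detCoeff_eq {n : ℕ} (b : Module.Basis (Fin n) (FractionRing (WittVector p k)) N)
    (F : N →ₛₗ[τ] N) : _root_.Isoc.detCoeff b F = (smat b F).det := rfl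

omit [Module (WittVector p k) N] [IsScalarTower (WittVector p k) (FractionRing (WittVector p k)) N] in
theorem repr_apply {n : ℕ} (b c : Module.Basis (Fin n) (FractionRing (WittVector p k)) N)
    (G : N →ₛₗ[τ] N) (x : N) (i : Fin n) :
    c.repr (G x) i = ∑ l, τ (b.repr x l) * c.repr (G (b l)) i := by
  conv_lhs => rw [← b.sum_repr x, map_sum, map_sum, Finsupp.finsetSum_apply]
  refine Finset.sum_congr rfl fun l _ => ?_
  rw [map_smulₛₗ, map_smul, Finsupp.smul_apply, smul_eq_mul]

omit [Module (WittVector p k) N] [IsScalarTower (WittVector p k) (FractionRing (WittVector p k)) N] in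
theorem smat_comp {n : ℕ} (b : Module.Basis (Fin n) (FractionRing (WittVector p k)) N)
    (G : N →ₛₗ[τ] N) (f : N → N) :
    smat b (fun x => G (f x)) = smat b G * (smat b f).map τ := by
  ext i j
  rw [Matrix.mul_apply, smat, Matrix.of_apply, repr_apply b b G]
  exact Finset.sum_congr rfl fun l _ => by simp [smat, mul_comm]

omit [Module (WittVector p k) N] [IsScalarTower (WittVector p k) (FractionRing (WittVector p k)) N] in
theorem smat_change {n : ℕ} (b c : Module.Basis (Fin n) (FractionRing (WittVector p k)) N)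
    (G : N →ₛₗ[τ] N) :
    smat b G * (b.toMatrix c).map τ = b.toMatrix c * smat c G := by
  ext i j
  rw [Matrix.mul_apply, Matrix.mul_apply]
  refine Eq.trans ?_ ((repr_apply b b G (c j) i).symm.trans ?_ |>.trans rfl)
  · exact Finset.sum_congr rfl fun l _ => by simp [smat, Module.Basis.toMatrix_apply, mul_comm]
  · conv_lhs => rw [← c.sum_repr (G (c j)), map_sum, Finsupp.finsetSum_apply]
    refine Finset.sum_congr rfl fun l _ => ?_
    simp [smat, Module.Basis.toMatrix_apply, mul_comm]

omit [Module (WittVector p k) N] [IsScalarTower (WittVector p k) (FractionRing (WittVector p k)) N] in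
theorem smat_smul {n : ℕ} (b : Module.Basis (Fin n) (FractionRing (WittVector p k)) N)
    (c : FractionRing (WittVector p k)) (f : N → N) :
    smat b (fun x => c • f x) = c • smat b f := by
  ext i j; simp [smat]

variable [PerfectRing k p]

omit [Module (WittVector p k) N] [IsScalarTower (WittVector p k) (FractionRing (WittVector p k)) N] in
theorem det_ne_zero (hτ : Adm p k τ) {n : ℕ}
    (b : Module.Basis (Fin n) (FractionRing (WittVector p k)) N) {G : N →ₛₗ[τ] N}
    (hG : Function.Bijective G) : (smat b G).det ≠ 0 := by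
  choose g hg using fun j => hG.2 (b j)
  choose X hX using fun (i j : Fin n) => hτ.surjective (τ (b.repr (g j) i))
  have : smat b G * (Matrix.of fun i j => τ (b.repr (g j) i)) = 1 := by
    ext i j
    have e := repr_apply b b G (g j) i
    rw [hg j, b.repr_self] at e
    rw [Matrix.mul_apply, Matrix.one_apply]
    refine Eq.trans (Finset.sum_congr rfl fun l _ => ?_) (e.symm.trans ?_)
    · simp [smat, mul_comm]
    · rw [Finsupp.single_apply]
      simp [eq_comm]
  intro h0
  have := congrArg Matrix.det this
  simp [Matrix.det_mul, h0] at this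

/-- The order of the determinant, for some basis. -/
def HasOrdDet (G : N →ₛₗ[τ] N) (h : ℕ) (d : ℤ) : Prop :=
  ∃ b : Module.Basis (Fin h) (FractionRing (WittVector p k)) N,
    _root_.Isoc.IsOrdP (p := p) (k := k) (smat b G).det d

omit [Module (WittVector p k) N] [IsScalarTower (WittVector p k) (FractionRing (WittVector p k)) N] in
theorem ordDet_any (hτ : Adm p k τ) {G : N →ₛₗ[τ] N} {h : ℕ} {d : ℤ} (H : HasOrdDet G h d)
    (c : Module.Basis (Fin h) (FractionRing (WittVector p k)) N) :
    _root_.Isoc.IsOrdP (p := p) (k := k) (smat c G).det d := by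
  obtain ⟨b, hb⟩ := H
  have hP : (b.toMatrix c).det ≠ 0 := by
    intro h0
    have := congrArg Matrix.det (b.toMatrix_mul_toMatrix_flip c)
    rw [Matrix.det_mul, h0, zero_mul, Matrix.det_one] at this
    exact zero_ne_one this
  obtain ⟨x, hx⟩ := exists_isOrdP (p := p) (k := k) hP
  have e := congrArg Matrix.det (smat_change b c G)
  rw [Matrix.det_mul, Matrix.det_mul, ← RingHom.mapMatrix_apply, ← RingHom.map_det] at e
  have h1 := isOrdP_mul hb (isOrdP_map hτ hx)
  rw [e] at h1
  have hne : (smat c G).det ≠ 0 := fun h0 => isOrdP_ne h1 (by rw [h0, mul_zero])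
  obtain ⟨y, hy⟩ := exists_isOrdP (p := p) (k := k) hne
  have := isOrdP_unique h1 (isOrdP_mul hx hy)
  rwa [show d = y by omega]

omit [Module (WittVector p k) N] [IsScalarTower (WittVector p k) (FractionRing (WittVector p k)) N] in
theorem ordDet_iter (hτ : Adm p k τ) {F : N →ₛₗ[τ] N} {h : ℕ} {d : ℤ} (H : HasOrdDet F h d) (n : ℕ) :
    HasOrdDet (_root_.Isoc.iter F n) h (n * d) := by
  obtain ⟨b, hb⟩ := H
  refine ⟨b, ?_⟩
  induction n with
  | zero =>
    have : smat b (_root_.Isoc.iter F 0) = 1 := by
      ext i j; simp [smat, Matrix.one_apply, Finsupp.single_apply, eq_comm]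
    rw [this, Matrix.det_one, Nat.cast_zero, zero_mul]
    exact isOrdP_one
  | succ n ih =>
    have : smat b (_root_.Isoc.iter F (n + 1)) = smat b F * (smat b (_root_.Isoc.iter F n)).map τ := by
      rw [← smat_comp]
      congr 1
      funext x
      simp [Function.iterate_succ_apply']
    rw [this, Matrix.det_mul, ← RingHom.mapMatrix_apply, ← RingHom.map_det]
    have := isOrdP_mul hb (isOrdP_map hτ ih)
    rwa [Nat.cast_succ, add_mul, one_mul, add_comm ((n : ℤ) * d)]

omit [Module (WittVector p k) N] [IsScalarTower (WittVector p k) (FractionRing (WittVector p k)) N] in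
theorem ordDet_smul {G : N →ₛₗ[τ] N} {h : ℕ} {d : ℤ} (H : HasOrdDet G h d) (r : ℤ) :
    HasOrdDet (((p : FractionRing (WittVector p k)) ^ r) • G) h (r * h + d) := by
  obtain ⟨b, hb⟩ := H
  refine ⟨b, ?_⟩
  rw [LinearMap.coe_smul, show ((p : FractionRing (WittVector p k)) ^ r • (G : N → N)) =
    fun x => ((p : FractionRing (WittVector p k)) ^ r) • G x from rfl, smat_smul, Matrix.det_smul,
    Fintype.card_fin]
  refine isOrdP_mul ?_ hb
  rw [← zpow_natCast, ← zpow_mul]
  exact isOrdP_zpow _

omit [Module (WittVector p k) N] [IsScalarTower (WittVector p k) (FractionRing (WittVector p k)) N] in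
theorem exists_ordDet (hτ : Adm p k τ) {G : N →ₛₗ[τ] N}
    [Module.Finite (FractionRing (WittVector p k)) N] (hG : Function.Bijective G) :
    ∃ d, HasOrdDet G (Module.finrank (FractionRing (WittVector p k)) N) d := by
  obtain ⟨d, hd⟩ := exists_isOrdP (p := p) (k := k)
    (det_ne_zero hτ (Module.finBasis (FractionRing (WittVector p k)) N) hG)
  exact ⟨d, _, hd⟩

/-- An integral basis of a lattice. -/
theorem exists_lattice_basis {M : Submodule (WittVector p k) N}
    (hM : M.IsLattice (FractionRing (WittVector p k))) {h : ℕ}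
    (b : Module.Basis (Fin h) (FractionRing (WittVector p k)) N) :
    ∃ (c : Module.Basis (Fin h) (FractionRing (WittVector p k)) N),
      (∀ i, c i ∈ M) ∧ M = Submodule.span (WittVector p k) (Set.range c) ∧
      ∀ x, x ∈ M ↔ ∀ i, ∃ w, algebraMap (WittVector p k) (FractionRing (WittVector p k)) w = c.repr x i := by
  classical
  have := hM
  have : Module.IsTorsionFree (WittVector p k) (FractionRing (WittVector p k)) := inferInstance
  have := Submodule.IsLattice.free (K := FractionRing (WittVector p k)) M
  let e := Module.Free.chooseBasis (WittVector p k) M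
  let E := e.extendOfIsLattice (FractionRing (WittVector p k))
  let σ := E.indexEquiv b
  refine ⟨E.reindex σ, fun i => ?_, ?_, fun x => ⟨fun hx i => ?_, fun hx => ?_⟩⟩
  · rw [Module.Basis.reindex_apply, Module.Basis.extendOfIsLattice_apply]
    exact Subtype.coe_prop _
  · conv_lhs => rw [← Submodule.range_subtype M, LinearMap.range_eq_map, ← e.span_eq,
      Submodule.map_span]
    congr 1
    ext y
    simp [E]
  · refine ⟨e.repr ⟨x, hx⟩ (σ.symm i), ?_⟩
    have : x = ∑ l, algebraMap (WittVector p k) (FractionRing (WittVector p k)) (e.repr ⟨x, hx⟩ l) • E l := by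
      conv_lhs => rw [show x = ((⟨x, hx⟩ : M) : N) from rfl, ← e.sum_repr ⟨x, hx⟩, Submodule.coe_sum]
      exact Finset.sum_congr rfl fun l _ => by simp [E, aL_smul]
    rw [Module.Basis.repr_reindex_apply]
    conv_rhs => rw [this]
    rw [map_sum, Finsupp.finsetSum_apply, Finset.sum_eq_single (σ.symm i)]
    · rw [map_smul, Finsupp.smul_apply, Module.Basis.repr_self, Finsupp.single_eq_same,
        smul_eq_mul, mul_one]
    · intro l _ hl
      rw [map_smul, Finsupp.smul_apply, Module.Basis.repr_self, Finsupp.single_eq_of_ne (Ne.symm hl),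
        smul_zero]
    · intro hn
      exact absurd (Finset.mem_univ _) hn
  · rw [← (E.reindex σ).sum_repr x]
    refine sum_mem fun i _ => ?_
    obtain ⟨w, hw⟩ := hx i
    rw [← hw, aL_smul]
    refine M.smul_mem _ ?_
    rw [Module.Basis.reindex_apply, Module.Basis.extendOfIsLattice_apply]
    exact Subtype.coe_prop _

theorem ordDet_ge_of_le (hτ : Adm p k τ) {G : N →ₛₗ[τ] N} {h : ℕ} {d : ℤ} (H : HasOrdDet G h d)
    {M : Submodule (WittVector p k) N} (hM : M.IsLattice (FractionRing (WittVector p k)))
    {r : ℤ} (hG : ∀ y ∈ M, G y ∈ _root_.Isoc.pPow r M) :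
    r * h ≤ d := by
  obtain ⟨b, hb⟩ := H
  obtain ⟨c, hc, -, hiff⟩ := exists_lattice_basis hM b
  have key := ordDet_any (hτ := hτ) (ordDet_smul ⟨b, hb⟩ (-r)) c
  choose w hw using fun i j => (hiff _).mp (mem_pPow.mp (hG _ (hc j))) i
  have : smat c (((p : FractionRing (WittVector p k)) ^ (-r)) • G : N →ₛₗ[τ] N) =
      (Matrix.of w).map (algebraMap (WittVector p k) (FractionRing (WittVector p k))) := by
    ext i j
    simp [smat, hw]
  rw [this, ← RingHom.mapMatrix_apply, ← RingHom.map_det] at key
  have := (isOrdP_nonneg key).mp ⟨_, rfl⟩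
  linarith

theorem latImg_one_eq_iff (hτ : Adm p k τ) {G : N →ₛₗ[τ] N} {h : ℕ} {d : ℤ} (H : HasOrdDet G h d)
    {M : Submodule (WittVector p k) N} (hM : M.IsLattice (FractionRing (WittVector p k)))
    (hle : _root_.Isoc.latImg G 1 M ≤ M) :
    _root_.Isoc.latImg G 1 M = M ↔ d = 0 := by
  obtain ⟨b, hb⟩ := H
  obtain ⟨c, hc, hspan, hiff⟩ := exists_lattice_basis hM b
  have key := ordDet_any hτ ⟨b, hb⟩ c
  choose w hw using fun i j => (hiff _).mp (latImg_le_iff.mp hle _ (hc j)) i
  simp only [Function.iterate_one] at hw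
  have hA : smat c G = (Matrix.of w).map (algebraMap (WittVector p k) (FractionRing (WittVector p k))) := by
    ext i j
    simp [smat, hw]
  rw [hA, ← RingHom.mapMatrix_apply, ← RingHom.map_det] at key
  constructor
  · intro heq
    have hmem : ∀ j, ∃ y ∈ M, G y = c j := fun j => by
      have := hc j
      rw [← heq, mem_latImg hτ] at this
      simpa using this
    choose g hg hg' using hmem
    choose z hz using fun i j => (hiff _).mp (hg j) i
    choose z' hz' using fun i j => hτ.maps (z i j)
    have hinv : (Matrix.of w) * (Matrix.of z') = 1 := by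
      apply Matrix.map_injective (IsFractionRing.injective (WittVector p k) (FractionRing (WittVector p k)))
      dsimp only
      rw [Matrix.map_mul, Matrix.map_one _ (map_zero _) (map_one _), ← hA]
      ext i j
      have e := repr_apply c c G (g j) i
      rw [hg' j, c.repr_self] at e
      rw [Matrix.mul_apply, Matrix.one_apply]
      refine Eq.trans (Finset.sum_congr rfl fun l _ => ?_) (e.symm.trans ?_)
      · simp only [Matrix.map_apply, Matrix.of_apply, ← hz', hz]
        simp [smat, mul_comm]
      · rw [Finsupp.single_apply]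
        simp [eq_comm]
    have hu : IsUnit (Matrix.of w).det :=
      IsUnit.of_mul_eq_one _ (by rw [← Matrix.det_mul, hinv, Matrix.det_one])
    exact isOrdP_unique key ⟨hu.unit, by simp⟩
  · rintro rfl
    obtain ⟨u, hu⟩ := key
    rw [zpow_zero, one_mul] at hu
    have hu' : IsUnit (Matrix.of w).det := by
      rw [IsFractionRing.injective (WittVector p k) (FractionRing (WittVector p k)) hu]
      exact u.isUnit
    refine le_antisymm hle ?_
    conv_lhs => rw [hspan]
    rw [Submodule.span_le]
    rintro _ ⟨j, rfl⟩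
    have e : c j = ∑ i, ((Matrix.of w)⁻¹ i j) • G (c i) := by
      apply c.repr.injective
      ext l
      have h1 := congrFun (congrFun (Matrix.mul_nonsing_inv _ hu') l) j
      rw [Matrix.mul_apply] at h1
      have h2 := congrArg (algebraMap (WittVector p k) (FractionRing (WittVector p k))) h1
      rw [map_sum] at h2
      rw [map_sum, Finsupp.finsetSum_apply, c.repr_self, Finsupp.single_apply]
      refine Eq.trans ?_ (Eq.trans h2.symm (Finset.sum_congr rfl fun i _ => ?_))
      · simp [Matrix.one_apply, eq_comm]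
      · rw [← aL_smul, map_smul, Finsupp.smul_apply, ← hw, smul_eq_mul, map_mul, Matrix.of_apply]
        ring
    rw [e, SetLike.mem_coe]
    exact sum_mem fun i _ => Submodule.smul_mem _ _ (Submodule.subset_span ⟨c i, hc i, rfl⟩)

/-! ### Orders of iterates -/

theorem isOrd_le_iff {M : Submodule (WittVector p k) N} {F : N →ₛₗ[τ] N} {s : ℕ} {o r : ℤ}
    (ho : _root_.Isoc.IsOrd M F s o) :
    _root_.Isoc.latImg F s M ≤ _root_.Isoc.pPow r M ↔ r ≤ o := by
  refine ⟨fun h => ?_, fun h => ho.1.trans (pPow_anti h M)⟩
  by_contra hlt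
  exact ho.2 (h.trans (pPow_anti (by omega) M))

theorem isOrd_unique {M : Submodule (WittVector p k) N} {F : N →ₛₗ[τ] N} {s : ℕ} {o o' : ℤ}
    (ho : _root_.Isoc.IsOrd M F s o) (ho' : _root_.Isoc.IsOrd M F s o') : o = o' :=
  le_antisymm ((isOrd_le_iff ho').mp ho.1) ((isOrd_le_iff ho).mp ho'.1)

theorem ord_mul_le (hτ : Adm p k τ) {F : N →ₛₗ[τ] N} {h : ℕ} {d : ℤ} (H : HasOrdDet F h d)
    {M : Submodule (WittVector p k) N} (hM : M.IsLattice (FractionRing (WittVector p k)))
    {s : ℕ} {r : ℤ} (hle : _root_.Isoc.latImg F s M ≤ _root_.Isoc.pPow r M) : r * h ≤ s * d :=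
  ordDet_ge_of_le (hτ.pow s) (ordDet_iter hτ H s) hM (latImg_le_iff.mp hle)

theorem exists_isOrd (hτ : Adm p k τ) {F : N →ₛₗ[τ] N}
    [Module.Finite (FractionRing (WittVector p k)) N] [Nontrivial N] (hF : Function.Bijective F)
    {M : Submodule (WittVector p k) N} (hM : M.IsLattice (FractionRing (WittVector p k))) (s : ℕ) :
    ∃ o, _root_.Isoc.IsOrd M F s o := by
  classical
  obtain ⟨d, hd⟩ := exists_ordDet hτ hF
  have hpos : 1 ≤ Module.finrank (FractionRing (WittVector p k)) N := Module.finrank_pos
  obtain ⟨o, ho, hmax⟩ := Int.exists_greatest_of_bdd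
    (P := fun r => _root_.Isoc.latImg F s M ≤ _root_.Isoc.pPow r M)
    ⟨max 0 ((s : ℤ) * d), fun r hr => by
      have := ord_mul_le hτ hd hM hr
      rcases le_or_gt r 0 with h0 | h0
      · exact h0.trans (le_max_left _ _)
      · refine le_trans ?_ (le_max_right _ _)
        refine le_trans ?_ this
        exact le_mul_of_one_le_right h0.le (by exact_mod_cast hpos)⟩
    (by
      obtain ⟨c, hc⟩ := exists_pPow_le_lattice hM (fg_latImg hτ F s hM.fg)
      refine ⟨-(c : ℤ), ?_⟩
      have := pPow_mono (r := -(c : ℤ)) hc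
      rwa [pPow_pPow, neg_add_cancel, pPow_zero] at this)
  exact ⟨o, ho, fun h => by have := hmax _ h; omega⟩

end GrothLib.Isoc
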