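import Groth.Agent.Lib.Isoc.Slope

/-!
# Isoclinic subobjects of isocrystals
-/

set_option autoImplicit false

noncomputable section

namespace GrothLib.Isoc

open scoped Isocrystal Pointwise

universe u v w

variable {p : ℕ} [Fact p.Prime] {k : Type u} [Field k] [CharP k p]
variable {N : Type v} [AddCommGroup N] [Module (WittVector p k) N]
  [Module (FractionRing (WittVector p k)) N]
  [IsScalarTower (WittVector p k) (FractionRing (WittVector p k)) N]
variable {N₂ : Type w} [AddCommGroup N₂] [Module (WittVector p k) N₂]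
  [Module (FractionRing (WittVector p k)) N₂]
  [IsScalarTower (WittVector p k) (FractionRing (WittVector p k)) N₂]
variable {τ : FractionRing (WittVector p k) →+* FractionRing (WittVector p k)}

/-! ### Functoriality of images -/

/-- Image of a `W`-submodule under an `L`-linear map. -/
def mapW (f : N →ₗ[FractionRing (WittVector p k)] N₂) (M : Submodule (WittVector p k) N) :
    Submodule (WittVector p k) N₂ :=
  M.map (f.restrictScalars (WittVector p k))

theorem mem_mapW {f : N →ₗ[FractionRing (WittVector p k)] N₂}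
    {M : Submodule (WittVector p k) N} {y : N₂} : y ∈ mapW f M ↔ ∃ x ∈ M, f x = y :=
  Submodule.mem_map

omit [Module (WittVector p k) N] [IsScalarTower (WittVector p k) (FractionRing (WittVector p k)) N]
  [Module (WittVector p k) N₂] [IsScalarTower (WittVector p k) (FractionRing (WittVector p k)) N₂] in
theorem intertwine_iterate {F : N →ₛₗ[τ] N} {F₂ : N₂ →ₛₗ[τ] N₂}
    {f : N →ₗ[FractionRing (WittVector p k)] N₂} (hf : ∀ x, f (F x) = F₂ (f x)) (s : ℕ) (x : N) :
    f ((⇑F)^[s] x) = (⇑F₂)^[s] (f x) :=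
  (Function.Semiconj.iterate_right (fun x => hf x) s) x

theorem mapW_latImg {F : N →ₛₗ[τ] N} {F₂ : N₂ →ₛₗ[τ] N₂}
    {f : N →ₗ[FractionRing (WittVector p k)] N₂} (hf : ∀ x, f (F x) = F₂ (f x)) (s : ℕ)
    (M : Submodule (WittVector p k) N) :
    mapW f (_root_.Isoc.latImg F s M) = _root_.Isoc.latImg F₂ s (mapW f M) := by
  rw [mapW, _root_.Isoc.latImg, Submodule.map_span, _root_.Isoc.latImg, mapW, Submodule.map_coe,
    ← Set.image_comp, ← Set.image_comp]
  congr 1
  exact Set.image_congr fun x _ => intertwine_iterate hf s x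

theorem mapW_pPow (f : N →ₗ[FractionRing (WittVector p k)] N₂) (r : ℤ)
    (M : Submodule (WittVector p k) N) :
    mapW f (_root_.Isoc.pPow r M) = _root_.Isoc.pPow r (mapW f M) := by
  ext y
  simp only [mem_mapW, mem_pPow]
  constructor
  · rintro ⟨x, hx, rfl⟩
    exact ⟨_, hx, map_smul _ _ _⟩
  · rintro ⟨x, hx, e⟩
    refine ⟨(p : FractionRing (WittVector p k)) ^ r • x, ?_, ?_⟩
    · rwa [smul_smul, ← zpow_add₀ (pne (p := p) (k := k)), neg_add_cancel, zpow_zero, one_smul]
    · rw [map_smul, e, smul_smul, ← zpow_add₀ (pne (p := p) (k := k)), add_neg_cancel, zpow_zero,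
        one_smul]

theorem span_mapW (f : N →ₗ[FractionRing (WittVector p k)] N₂)
    (M : Submodule (WittVector p k) N) :
    Submodule.span (FractionRing (WittVector p k)) (mapW f M : Set N₂) =
      (Submodule.span (FractionRing (WittVector p k)) (M : Set N)).map f := by
  rw [Submodule.map_span, mapW, Submodule.map_coe]
  rfl

theorem latImg_le_latImg_iff (hτ : Adm p k τ) {F : N →ₛₗ[τ] N} (hF : Function.Injective F) {s : ℕ}
    {A B : Submodule (WittVector p k) N} :
    _root_.Isoc.latImg F s A ≤ _root_.Isoc.latImg F s B ↔ A ≤ B := by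
  refine ⟨fun h x hx => ?_, fun h => latImg_mono h⟩
  obtain ⟨y, hy, e⟩ := (mem_latImg hτ).mp (h (Submodule.subset_span ⟨x, hx, rfl⟩))
  exact hF.iterate s e ▸ hy

theorem latImg_sup₂ (hτ : Adm p k τ) (F : N →ₛₗ[τ] N) (s : ℕ)
    (A B : Submodule (WittVector p k) N) :
    _root_.Isoc.latImg F s (A ⊔ B) = _root_.Isoc.latImg F s A ⊔ _root_.Isoc.latImg F s B := by
  rw [sup_eq_iSup, latImg_sup hτ, sup_eq_iSup]
  exact iSup_congr fun b => by cases b <;> rfl

theorem pPow_sup₂ (r : ℤ) (A B : Submodule (WittVector p k) N) :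
    _root_.Isoc.pPow r (A ⊔ B) = _root_.Isoc.pPow r A ⊔ _root_.Isoc.pPow r B :=
  Submodule.map_sup _ _ _

theorem span_sup₂ (A B : Submodule (WittVector p k) N) :
    Submodule.span (FractionRing (WittVector p k)) ((A ⊔ B : Submodule (WittVector p k) N) : Set N) =
      Submodule.span (FractionRing (WittVector p k)) (A : Set N) ⊔
        Submodule.span (FractionRing (WittVector p k)) (B : Set N) := by
  refine le_antisymm (Submodule.span_le.mpr fun x hx => ?_)
    (sup_le (Submodule.span_mono (le_sup_left : A ≤ A ⊔ B))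
      (Submodule.span_mono (le_sup_right : B ≤ A ⊔ B)))
  obtain ⟨a, ha, b, hb, rfl⟩ := Submodule.mem_sup.mp hx
  exact add_mem (Submodule.mem_sup_left (Submodule.subset_span ha))
    (Submodule.mem_sup_right (Submodule.subset_span hb))

/-- The vectors of `M` lying in an `L`-subspace. -/
def interW (M : Submodule (WittVector p k) N) (P : Submodule (FractionRing (WittVector p k)) N) :
    Submodule (WittVector p k) N :=
  M ⊓ P.restrictScalars (WittVector p k)

theorem mem_interW {M : Submodule (WittVector p k) N}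
    {P : Submodule (FractionRing (WittVector p k)) N} {x : N} :
    x ∈ interW M P ↔ x ∈ M ∧ x ∈ P := Iff.rfl

/-! ### Stable subspaces -/

omit [Module (WittVector p k) N] [IsScalarTower (WittVector p k) (FractionRing (WittVector p k)) N] in
theorem iterate_mem_of_stable {F : N →ₛₗ[τ] N} {P : Submodule (FractionRing (WittVector p k)) N}
    (hP : ∀ x ∈ P, F x ∈ P) (s : ℕ) {x : N} (hx : x ∈ P) : (⇑F)^[s] x ∈ P := by
  induction s with
  | zero => simpa using hx
  | succ s ih => rw [Function.iterate_succ_apply']; exact hP _ ih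

omit [Module (WittVector p k) N] [IsScalarTower (WittVector p k) (FractionRing (WittVector p k)) N] in
theorem mem_of_map_mem {F : N →ₛₗ[τ] N} [Module.Finite (FractionRing (WittVector p k)) N]
    (hF : Function.Bijective F) {P : Submodule (FractionRing (WittVector p k)) N}
    (hP : ∀ x ∈ P, F x ∈ P) {x : N} (hx : F x ∈ P) : x ∈ P := by
  have hmono : Monotone fun n => P.comap (_root_.Isoc.iter F n) := monotone_nat_of_le_succ fun n y hy => by
    show (⇑F)^[n + 1] y ∈ P
    rw [Function.iterate_succ_apply']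
    exact hP _ hy
  obtain ⟨n, hn⟩ := monotone_stabilizes_iff_noetherian.mpr
    (inferInstance : IsNoetherian (FractionRing (WittVector p k)) N) ⟨_, hmono⟩
  obtain ⟨y, rfl⟩ := (hF.iterate n).2 x
  have h1 : y ∈ P.comap (_root_.Isoc.iter F (n + 1)) := by
    show (⇑F)^[n + 1] y ∈ P
    rwa [Function.iterate_succ_apply']
  have h2 : P.comap (_root_.Isoc.iter F n) = P.comap (_root_.Isoc.iter F (n + 1)) := hn (n + 1) (by omega)
  rw [← h2] at h1
  exact h1

omit [Module (WittVector p k) N] [IsScalarTower (WittVector p k) (FractionRing (WittVector p k)) N] in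
theorem mem_of_iterate_mem {F : N →ₛₗ[τ] N} [Module.Finite (FractionRing (WittVector p k)) N]
    (hF : Function.Bijective F) {P : Submodule (FractionRing (WittVector p k)) N}
    (hP : ∀ x ∈ P, F x ∈ P) (s : ℕ) {x : N} (hx : (⇑F)^[s] x ∈ P) : x ∈ P := by
  induction s with
  | zero => simpa using hx
  | succ s ih => rw [Function.iterate_succ_apply'] at hx; exact ih (mem_of_map_mem hF hP hx)

/-! ### Isoclinic subspaces -/

/-- `P` carries a finitely generated spanning submodule with `F^s M = p^r M`, `r / s = μ`. -/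
def IsoclOn (F : N →ₛₗ[τ] N) (P : Submodule (FractionRing (WittVector p k)) N) (μ : ℚ) : Prop :=
  ∃ M : Submodule (WittVector p k) N, M.FG ∧
    Submodule.span (FractionRing (WittVector p k)) (M : Set N) = P ∧
    ∃ (r : ℤ) (s : ℕ), 0 < s ∧ (r : ℚ) / s = μ ∧
      _root_.Isoc.latImg F s M = _root_.Isoc.pPow r M

theorem isoclOn_top {F : N →ₛₗ[τ] N} {μ : ℚ} :
    IsoclOn F ⊤ μ ↔ _root_.Isoc.IsIsoclinic F μ :=
  ⟨fun ⟨M, h1, h2, h⟩ => ⟨M, ⟨h1, h2⟩, h⟩, fun ⟨M, hM, h⟩ => ⟨M, hM.fg, hM.span_eq_top, h⟩⟩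

theorem IsoclOn.map {F : N →ₛₗ[τ] N} {F₂ : N₂ →ₛₗ[τ] N₂}
    {f : N →ₗ[FractionRing (WittVector p k)] N₂} (hf : ∀ x, f (F x) = F₂ (f x))
    {P : Submodule (FractionRing (WittVector p k)) N} {μ : ℚ} (h : IsoclOn F P μ) :
    IsoclOn F₂ (P.map f) μ := by
  obtain ⟨M, hfg, hspan, r, s, hs, hμ, e⟩ := h
  refine ⟨mapW f M, hfg.map _, ?_, r, s, hs, hμ, ?_⟩
  · rw [span_mapW, hspan]
  · rw [← mapW_latImg hf, e, mapW_pPow]

theorem isoclOn_comap {F : N →ₛₗ[τ] N} {F₂ : N₂ →ₛₗ[τ] N₂}
    {f : N →ₗ[FractionRing (WittVector p k)] N₂} (hf : ∀ x, f (F x) = F₂ (f x))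
    (hinj : Function.Injective f) {P : Submodule (FractionRing (WittVector p k)) N} {μ : ℚ}
    (h : IsoclOn F₂ (P.map f) μ) : IsoclOn F P μ := by
  obtain ⟨M, hfg, hspan, r, s, hs, hμ, e⟩ := h
  have hinj' : Function.Injective (mapW (N₂ := N₂) f) := fun A B hAB =>
    Submodule.map_injective_of_injective (f := f.restrictScalars (WittVector p k)) hinj hAB
  set M' := M.comap (f.restrictScalars (WittVector p k)) with hM'
  have hmap : mapW f M' = M := by
    refine le_antisymm (Submodule.map_comap_le _ _) fun y hy => ?_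
    obtain ⟨x, -, rfl⟩ : y ∈ P.map f := hspan ▸ Submodule.subset_span hy
    exact mem_mapW.mpr ⟨x, hy, rfl⟩
  refine ⟨M', ?_, ?_, r, s, hs, hμ, hinj' ?_⟩
  · exact Submodule.fg_of_fg_map_injective (f.restrictScalars (WittVector p k)) hinj
      (show (mapW f M').FG by rw [hmap]; exact hfg)
  · exact Submodule.map_injective_of_injective hinj (by rw [← span_mapW, hmap, hspan])
  · rw [mapW_latImg hf, mapW_pPow, hmap, e]

theorem isIsoclinic_restrict_iff {F : N →ₛₗ[τ] N}
    {P : Submodule (FractionRing (WittVector p k)) N} (hP : ∀ x ∈ P, F x ∈ P) {μ : ℚ} :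
    _root_.Isoc.IsIsoclinic (F.restrict hP) μ ↔ IsoclOn F P μ := by
  have hf : ∀ x : P, P.subtype (F.restrict hP x) = F (P.subtype x) := fun _ => rfl
  have hP' : (⊤ : Submodule (FractionRing (WittVector p k)) P).map P.subtype = P := by simp
  rw [← isoclOn_top]
  constructor
  · intro h; rw [← hP']; exact h.map hf
  · intro h; refine isoclOn_comap hf P.injective_subtype ?_; rwa [hP']

theorem isoclOn_bot (F : N →ₛₗ[τ] N) (μ : ℚ) : IsoclOn F ⊥ μ := by
  refine ⟨⊥, Submodule.fg_bot, by simp, μ.num, μ.den, μ.den_pos, Rat.num_div_den μ, ?_⟩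
  have h1 : _root_.Isoc.latImg F μ.den (⊥ : Submodule (WittVector p k) N) = ⊥ := by
    rw [eq_bot_iff, latImg_le_iff]
    intro y hy
    rw [Submodule.mem_bot] at hy
    rw [hy, iterate_zero']
    exact zero_mem _
  rw [h1]
  exact (Submodule.map_bot _).symm

theorem isoclOn_common (hτ : Adm p k τ) {F : N →ₛₗ[τ] N} {M : Submodule (WittVector p k) N}
    {r : ℤ} {s : ℕ} (e : _root_.Isoc.latImg F s M = _root_.Isoc.pPow r M) (n : ℕ) :
    _root_.Isoc.latImg F (s * n) M = _root_.Isoc.pPow (r * n) M := by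
  rw [mul_comm, mul_comm r]; exact latImg_mul_eq hτ e n

theorem IsoclOn.sup (hτ : Adm p k τ) {F : N →ₛₗ[τ] N}
    {P Q : Submodule (FractionRing (WittVector p k)) N} {μ : ℚ} (hP : IsoclOn F P μ)
    (hQ : IsoclOn F Q μ) : IsoclOn F (P ⊔ Q) μ := by
  obtain ⟨M, hfg, hspan, r, s, hs, hμ, e⟩ := hP
  obtain ⟨M', hfg', hspan', r', s', hs', hμ', e'⟩ := hQ
  have hr : r * s' = r' * s := by
    have := hμ.trans hμ'.symm
    rw [div_eq_div_iff (by exact_mod_cast hs.ne') (by exact_mod_cast hs'.ne')] at this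
    exact_mod_cast this
  refine ⟨M ⊔ M', hfg.sup hfg', ?_, r * s', s * s', Nat.mul_pos hs hs', ?_, ?_⟩
  · rw [span_sup₂, hspan, hspan']
  · rw [← hμ]; push_cast
    rw [mul_div_mul_right _ _ (by exact_mod_cast hs'.ne')]
  · rw [latImg_sup₂ hτ, isoclOn_common hτ e, mul_comm s s', isoclOn_common hτ e', pPow_sup₂, hr]

variable [PerfectRing k p]

theorem IsoclOn.inter (hτ : Adm p k τ) {F : N →ₛₗ[τ] N}
    [Module.Finite (FractionRing (WittVector p k)) N] (hF : Function.Bijective F)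
    {P Q : Submodule (FractionRing (WittVector p k)) N} {μ : ℚ} (hP : IsoclOn F P μ)
    (hQ : ∀ x ∈ Q, F x ∈ Q) (hQP : Q ≤ P) : IsoclOn F Q μ := by
  obtain ⟨M, hfg, hspan, r, s, hs, hμ, e⟩ := hP
  refine ⟨interW M Q, fg_of_le hfg inf_le_left, ?_, r, s, hs, hμ, ?_⟩
  · refine le_antisymm (Submodule.span_le.mpr fun x hx => hx.2) fun x hx => ?_
    obtain ⟨c, hc⟩ := exists_pow_mem (M := M) (hspan.symm ▸ hQP hx)
    have hc' : (p : WittVector p k) ^ c • x ∈ interW M Q :=
      ⟨hc, (Q.restrictScalars (WittVector p k)).smul_mem _ hx⟩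
    have := Submodule.smul_mem (Submodule.span (FractionRing (WittVector p k)) (interW M Q : Set N))
      ((p : FractionRing (WittVector p k)) ^ (-(c : ℤ))) (Submodule.subset_span hc')
    rwa [← p_smul_eq, smul_smul, ← zpow_add₀ (pne (p := p) (k := k)), neg_add_cancel, zpow_zero,
      one_smul] at this
  · ext x
    rw [mem_latImg hτ, mem_pPow, mem_interW]
    constructor
    · rintro ⟨y, ⟨hyM, hyQ⟩, rfl⟩
      exact ⟨mem_pPow.mp (e ▸ Submodule.subset_span ⟨y, hyM, rfl⟩),
        Q.smul_mem _ (iterate_mem_of_stable hQ s hyQ)⟩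
    · rintro ⟨hxM, hxQ⟩
      obtain ⟨y, hy, hyx⟩ := (mem_latImg hτ).mp (e.symm ▸ mem_pPow.mpr hxM :
        x ∈ _root_.Isoc.latImg F s M)
      refine ⟨y, ⟨hy, mem_of_iterate_mem hF hQ s ?_⟩, hyx⟩
      rw [hyx]
      exact (Q.smul_mem_iff (pz (-r))).mp hxQ

theorem eq_zero_of_isoclOn (hτ : Adm p k τ) {F : N →ₛₗ[τ] N} {F₂ : N₂ →ₛₗ[τ] N₂}
    (hF₂ : Function.Injective F₂) {f : N →ₗ[FractionRing (WittVector p k)] N₂}
    (hf : ∀ x, f (F x) = F₂ (f x)) {P : Submodule (FractionRing (WittVector p k)) N}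
    {Q : Submodule (FractionRing (WittVector p k)) N₂} {μ ν : ℚ} (hP : IsoclOn F P μ)
    (hQ : IsoclOn F₂ Q ν) (hne : μ ≠ ν) (hPQ : P.map f ≤ Q) : P.map f = ⊥ := by
  obtain ⟨M, hfgM, hspanM, r, s, hs, hμ, e⟩ := hP.map hf
  obtain ⟨M', hfg', hspan', r', s', hs', hν, e'⟩ := hQ
  obtain ⟨c, hc⟩ := exists_pPow_le (M := M') (M' := M) hfgM (by
      rw [hspan']
      exact fun x hx => hPQ (hspanM ▸ Submodule.subset_span hx))
  have hMle : M ≤ _root_.Isoc.pPow (-(c : ℤ)) M' := by
    have := pPow_mono (r := -(c : ℤ)) hc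
    rwa [pPow_pPow, neg_add_cancel, pPow_zero] at this
  have hne' : r * s' ≠ r' * s := by
    intro h
    apply hne
    rw [← hμ, ← hν, div_eq_div_iff (by exact_mod_cast hs.ne') (by exact_mod_cast hs'.ne')]
    exact_mod_cast h
  have hM : M = ⊥ := by
    rw [Submodule.eq_bot_iff]
    intro x hx
    refine eq_zero_of_forall_mem hfg' fun m => ?_
    set n : ℕ := m + c with hn
    have eM : _root_.Isoc.latImg F₂ (s * s' * n) M = _root_.Isoc.pPow (r * (s' * n : ℕ)) M := by
      rw [mul_assoc]; exact isoclOn_common hτ e _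
    have eM' : _root_.Isoc.latImg F₂ (s * s' * n) M' = _root_.Isoc.pPow (r' * (s * n : ℕ)) M' := by
      rw [mul_comm s s', mul_assoc]; exact isoclOn_common hτ e' _
    rcases lt_or_gt_of_ne hne' with hlt | hgt
    · have h1 : _root_.Isoc.latImg F₂ (s * s' * n) M ≤
          _root_.Isoc.latImg F₂ (s * s' * n) (_root_.Isoc.pPow (-(c : ℤ)) M') := latImg_mono hMle
      rw [eM, latImg_pPow hτ, eM', pPow_pPow, pPow_le_pPow_iff] at h1
      refine pPow_anti ?_ M' (h1 hx)
      push_cast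
      nlinarith
    · have h1 : _root_.Isoc.latImg F₂ (s * s' * n) M ≤ _root_.Isoc.latImg F₂ (s * s' * n)
          (_root_.Isoc.pPow (r * (s' * n : ℕ) - c - r' * (s * n : ℕ)) M') := by
        rw [eM, latImg_pPow hτ, eM', pPow_pPow]
        refine (pPow_mono hMle).trans (le_of_eq ?_)
        rw [pPow_pPow]
        congr 1
        ring
      refine pPow_anti ?_ M' ((latImg_le_latImg_iff hτ hF₂).mp h1 hx)
      push_cast
      nlinarith
  rw [← hspanM, hM]
  simp

theorem slopePart_isoclOn (hτ : Adm p k τ) (F : N →ₛₗ[τ] N)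
    [Module.Finite (FractionRing (WittVector p k)) N] (μ : ℚ) :
    (∀ x ∈ _root_.Isoc.slopePart F μ, F x ∈ _root_.Isoc.slopePart F μ) ∧
      IsoclOn F (_root_.Isoc.slopePart F μ) μ := by
  set S : Set (Submodule (FractionRing (WittVector p k)) N) :=
    {P | ∃ hP : ∀ x ∈ P, F x ∈ P, _root_.Isoc.IsIsoclinic (F.restrict hP) μ} with hS
  have hmem : ∀ P, P ∈ S ↔ (∀ x ∈ P, F x ∈ P) ∧ IsoclOn F P μ := fun P =>
    ⟨fun ⟨h, h'⟩ => ⟨h, (isIsoclinic_restrict_iff h).mp h'⟩,
      fun ⟨h, h'⟩ => ⟨h, (isIsoclinic_restrict_iff h).mpr h'⟩⟩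
  have hbot : (⊥ : Submodule (FractionRing (WittVector p k)) N) ∈ S :=
    (hmem ⊥).mpr ⟨fun x hx => by rw [Submodule.mem_bot] at hx ⊢; rw [hx, map_zero], isoclOn_bot F μ⟩
  obtain ⟨P, hP, hmax⟩ := wellFounded_gt.has_min S ⟨⊥, hbot⟩
  have htop : ∀ Q ∈ S, Q ≤ P := by
    intro Q hQ
    obtain ⟨hPs, hPi⟩ := (hmem P).mp hP
    obtain ⟨hQs, hQi⟩ := (hmem Q).mp hQ
    have hsup : P ⊔ Q ∈ S := by
      refine (hmem _).mpr ⟨fun x hx => ?_, hPi.sup hτ hQi⟩
      obtain ⟨a, ha, b, hb, rfl⟩ := Submodule.mem_sup.mp hx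
      rw [map_add]
      exact add_mem (Submodule.mem_sup_left (hPs a ha)) (Submodule.mem_sup_right (hQs b hb))
    by_contra hQP
    exact hmax (P ⊔ Q) hsup (lt_of_le_of_ne le_sup_left fun h => hQP (h ▸ le_sup_right))
  have : _root_.Isoc.slopePart F μ = P := le_antisymm (sSup_le htop) (le_sSup hP)
  rw [this]
  exact (hmem P).mp hP

theorem le_slopePart (F : N →ₛₗ[τ] N) {P : Submodule (FractionRing (WittVector p k)) N} {μ : ℚ}
    (hP : ∀ x ∈ P, F x ∈ P) (h : IsoclOn F P μ) : P ≤ _root_.Isoc.slopePart F μ :=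
  le_sSup ⟨hP, (isIsoclinic_restrict_iff hP).mpr h⟩

end GrothLib.Isoc
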