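import Groth.Agent.Lib.Isoc.Scalar
import Mathlib.RingTheory.Filtration

/-!
# Lattices in isocrystals and their images
-/

set_option autoImplicit false

noncomputable section

namespace GrothLib.Isoc

open scoped Isocrystal Pointwise

universe u v

variable {p : ℕ} [Fact p.Prime] {k : Type u} [Field k] [CharP k p]


variable {N : Type v} [AddCommGroup N] [Module (WittVector p k) N] [Module (FractionRing (WittVector p k)) N] [IsScalarTower (WittVector p k) (FractionRing (WittVector p k)) N]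
variable {τ τ' : (FractionRing (WittVector p k)) →+* (FractionRing (WittVector p k))}

theorem aL_smul (w : (WittVector p k)) (x : N) : (algebraMap (WittVector p k) (FractionRing (WittVector p k))) w • x = w • x := IsScalarTower.algebraMap_smul _ _ _

theorem p_smul_eq (n : ℕ) (x : N) : (p : FractionRing (WittVector p k)) ^ (n : ℤ) • x = (p : (WittVector p k)) ^ n • x := by
  rw [← aL_smul, map_pow, map_natCast, zpow_natCast]

theorem mem_pPow {r : ℤ} {M : Submodule (WittVector p k) N} {x : N} :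
    x ∈ _root_.Isoc.pPow r M ↔ (p : FractionRing (WittVector p k)) ^ (-r) • x ∈ M := by
  rw [_root_.Isoc.pPow, zpow_neg]
  exact Submodule.mem_smul_pointwise_iff_exists _ _ _ |>.trans
    ⟨fun ⟨y, hy, hxy⟩ => by rw [← hxy, inv_smul_smul₀ (pz r)]; exact hy,
      fun h => ⟨_, h, smul_inv_smul₀ (pz r) x⟩⟩

theorem pPow_zero (M : Submodule (WittVector p k) N) : _root_.Isoc.pPow 0 M = M := by
  ext x; simp [mem_pPow]

theorem pPow_pPow (r r' : ℤ) (M : Submodule (WittVector p k) N) :
    _root_.Isoc.pPow r (_root_.Isoc.pPow r' M) = _root_.Isoc.pPow (r + r') M := by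
  ext x
  rw [mem_pPow, mem_pPow, mem_pPow, smul_smul, ← zpow_add₀ (pne (p := p) (k := k)), neg_add_rev]

theorem pPow_mono {r : ℤ} {M M' : Submodule (WittVector p k) N} (h : M ≤ M') :
    _root_.Isoc.pPow r M ≤ _root_.Isoc.pPow r M' := fun x hx => by
  rw [mem_pPow] at hx ⊢
  exact h hx

theorem pPow_anti {r r' : ℤ} (h : r ≤ r') (M : Submodule (WittVector p k) N) :
    _root_.Isoc.pPow r' M ≤ _root_.Isoc.pPow r M := fun x hx => by
  rw [mem_pPow] at hx ⊢
  obtain ⟨n, hn⟩ := Int.le.dest h
  have : (p : FractionRing (WittVector p k)) ^ (-r) • x = (p : (WittVector p k)) ^ n • ((p : FractionRing (WittVector p k)) ^ (-r') • x) := by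
    rw [← p_smul_eq, smul_smul, ← zpow_add₀ (pne (p := p) (k := k))]
    congr 2
    omega
  rw [this]
  exact M.smul_mem _ hx

/-- Iterates of a semilinear map. -/
theorem iterate_smul (F : N →ₛₗ[τ] N) (n : ℕ) (c : (FractionRing (WittVector p k))) (x : N) :
    (⇑F)^[n] (c • x) = (τ ^ n) c • (⇑F)^[n] x :=
  (_root_.Isoc.iter F n).map_smulₛₗ c x

theorem iterate_add' (F : N →ₛₗ[τ] N) (n : ℕ) (x y : N) :
    (⇑F)^[n] (x + y) = (⇑F)^[n] x + (⇑F)^[n] y :=
  (_root_.Isoc.iter F n).map_add x y

theorem iterate_zero' (F : N →ₛₗ[τ] N) (n : ℕ) : (⇑F)^[n] (0 : N) = 0 :=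
  (_root_.Isoc.iter F n).map_zero

theorem iterate_pz (F : N →ₛₗ[τ] N) (n : ℕ) (r : ℤ) (x : N) :
    (⇑F)^[n] ((p : FractionRing (WittVector p k)) ^ r • x) = (p : FractionRing (WittVector p k)) ^ r • (⇑F)^[n] x := by
  rw [iterate_smul, tau_pz]

theorem map_pz (F : N →ₛₗ[τ] N) (r : ℤ) (x : N) : F ((p : FractionRing (WittVector p k)) ^ r • x) = (p : FractionRing (WittVector p k)) ^ r • F x :=
  iterate_pz F 1 r x

theorem exists_iterate_wsmul (hτ : Adm p k τ) (F : N →ₛₗ[τ] N) (n : ℕ) (w : (WittVector p k)) :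
    ∃ w' : (WittVector p k), ∀ x : N, (⇑F)^[n] (w • x) = w' • (⇑F)^[n] x := by
  obtain ⟨w', hw⟩ := (hτ.pow n).maps w
  exact ⟨w', fun x => by rw [← aL_smul, iterate_smul, hw, aL_smul]⟩

theorem exists_wsmul_iterate (hτ : Adm p k τ) (F : N →ₛₗ[τ] N) (n : ℕ) (w : (WittVector p k)) :
    ∃ w' : (WittVector p k), ∀ x : N, w • (⇑F)^[n] x = (⇑F)^[n] (w' • x) := by
  obtain ⟨w', hw⟩ := (hτ.pow n).onto w
  exact ⟨w', fun x => by rw [← aL_smul w', iterate_smul, hw, aL_smul]⟩

theorem mem_latImg (hτ : Adm p k τ) {F : N →ₛₗ[τ] N} {s : ℕ} {M : Submodule (WittVector p k) N} {x : N} :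
    x ∈ _root_.Isoc.latImg F s M ↔ ∃ y ∈ M, (⇑F)^[s] y = x := by
  refine ⟨fun h => ?_, fun ⟨y, hy, e⟩ => Submodule.subset_span ⟨y, hy, e⟩⟩
  induction h using Submodule.span_induction with
  | mem x hx => exact hx
  | zero => exact ⟨0, M.zero_mem, iterate_zero' F s⟩
  | add a b _ _ ha hb =>
    obtain ⟨y, hy, rfl⟩ := ha
    obtain ⟨z, hz, rfl⟩ := hb
    exact ⟨y + z, add_mem hy hz, iterate_add' F s y z⟩
  | smul w a _ ha =>
    obtain ⟨y, hy, rfl⟩ := ha
    obtain ⟨w', hw⟩ := exists_wsmul_iterate hτ F s w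
    exact ⟨w' • y, M.smul_mem _ hy, (hw y).symm⟩

theorem latImg_le_iff {F : N →ₛₗ[τ] N} {s : ℕ} {M M' : Submodule (WittVector p k) N} :
    _root_.Isoc.latImg F s M ≤ M' ↔ ∀ y ∈ M, (⇑F)^[s] y ∈ M' := by
  rw [_root_.Isoc.latImg, Submodule.span_le, Set.image_subset_iff]
  rfl

theorem latImg_mono {F : N →ₛₗ[τ] N} {s : ℕ} {M M' : Submodule (WittVector p k) N} (h : M ≤ M') :
    _root_.Isoc.latImg F s M ≤ _root_.Isoc.latImg F s M' :=
  Submodule.span_mono (Set.image_mono h)

theorem latImg_zero (M : Submodule (WittVector p k) N) (F : N →ₛₗ[τ] N) : _root_.Isoc.latImg F 0 M = M := by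
  simp [_root_.Isoc.latImg]

theorem latImg_add (hτ : Adm p k τ) (F : N →ₛₗ[τ] N) (s t : ℕ) (M : Submodule (WittVector p k) N) :
    _root_.Isoc.latImg F (s + t) M = _root_.Isoc.latImg F s (_root_.Isoc.latImg F t M) := by
  ext x
  simp only [mem_latImg hτ, Function.iterate_add_apply]
  aesop

theorem latImg_pPow (hτ : Adm p k τ) (F : N →ₛₗ[τ] N) (s : ℕ) (r : ℤ) (M : Submodule (WittVector p k) N) :
    _root_.Isoc.latImg F s (_root_.Isoc.pPow r M) = _root_.Isoc.pPow r (_root_.Isoc.latImg F s M) := by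
  ext x
  simp only [mem_latImg hτ, mem_pPow]
  constructor
  · rintro ⟨y, hy, rfl⟩
    exact ⟨_, hy, iterate_pz F s _ y⟩
  · rintro ⟨y, hy, e⟩
    refine ⟨(p : FractionRing (WittVector p k)) ^ r • y, ?_, ?_⟩
    · rw [smul_smul, ← zpow_add₀ (pne (p := p) (k := k)), neg_add_cancel, zpow_zero, one_smul]
      exact hy
    · rw [iterate_pz, e, smul_smul, ← zpow_add₀ (pne (p := p) (k := k)), add_neg_cancel, zpow_zero,
        one_smul]

theorem latImg_sup (hτ : Adm p k τ) (F : N →ₛₗ[τ] N) (s : ℕ) {ι : Sort*} (M : ι → Submodule (WittVector p k) N) :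
    _root_.Isoc.latImg F s (⨆ i, M i) = ⨆ i, _root_.Isoc.latImg F s (M i) := by
  refine le_antisymm ?_ (iSup_le fun i => latImg_mono (le_iSup M i))
  rw [latImg_le_iff]
  intro y hy
  induction hy using Submodule.iSup_induction' with
  | mem i x hx => exact Submodule.mem_iSup_of_mem i (Submodule.subset_span ⟨x, hx, rfl⟩)
  | zero => rw [iterate_zero']; exact zero_mem _
  | add a b _ _ ha hb => rw [iterate_add']; exact add_mem ha hb

theorem pPow_sup (r : ℤ) {ι : Sort*} (M : ι → Submodule (WittVector p k) N) :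
    _root_.Isoc.pPow r (⨆ i, M i) = ⨆ i, _root_.Isoc.pPow r (M i) := by
  rw [_root_.Isoc.pPow]
  exact Submodule.map_iSup _ _

theorem latImg_iter (F : N →ₛₗ[τ] N) (s n : ℕ) (M : Submodule (WittVector p k) N) :
    _root_.Isoc.latImg (_root_.Isoc.iter F s) n M = _root_.Isoc.latImg F (s * n) M := by
  simp [_root_.Isoc.latImg, Function.iterate_mul]

/-- The twisted iterate `p^(-r) F^s`. -/
def tw (F : N →ₛₗ[τ] N) (r : ℤ) (s : ℕ) : N →ₛₗ[τ ^ s] N := (p : FractionRing (WittVector p k)) ^ (-r) • _root_.Isoc.iter F s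

theorem iterate_smul_iter (F : N →ₛₗ[τ] N) (m : ℤ) (s n : ℕ) (x : N) :
    (⇑((p : FractionRing (WittVector p k)) ^ m • _root_.Isoc.iter F s))^[n] x = (p : FractionRing (WittVector p k)) ^ ((n : ℤ) * m) • (⇑F)^[s * n] x := by
  induction n with
  | zero => simp
  | succ n ih =>
    rw [Function.iterate_succ_apply', ih, LinearMap.smul_apply, _root_.Isoc.iter_apply, iterate_pz,
      smul_smul, ← zpow_add₀ (pne (p := p) (k := k)), ← Function.iterate_add_apply]
    congr 2
    · push_cast; ring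
    · ring

theorem tw_iterate (F : N →ₛₗ[τ] N) (r : ℤ) (s n : ℕ) (x : N) :
    (⇑(tw F r s))^[n] x = (p : FractionRing (WittVector p k)) ^ (-((n : ℤ) * r)) • (⇑F)^[s * n] x := by
  rw [tw, iterate_smul_iter, mul_neg]

theorem latImg_smul_iter (hτ : Adm p k τ) (F : N →ₛₗ[τ] N) (m : ℤ) (s n : ℕ) (M : Submodule (WittVector p k) N) :
    _root_.Isoc.latImg ((p : FractionRing (WittVector p k)) ^ m • _root_.Isoc.iter F s) n M =
      _root_.Isoc.pPow ((n : ℤ) * m) (_root_.Isoc.latImg F (s * n) M) := by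
  ext x
  simp only [mem_latImg (hτ.pow s), mem_latImg hτ, mem_pPow, iterate_smul_iter]
  constructor
  · rintro ⟨y, hy, rfl⟩
    refine ⟨y, hy, ?_⟩
    rw [smul_smul, ← zpow_add₀ (pne (p := p) (k := k)), neg_add_cancel, zpow_zero, one_smul]
  · rintro ⟨y, hy, e⟩
    refine ⟨y, hy, ?_⟩
    rw [e, smul_smul, ← zpow_add₀ (pne (p := p) (k := k)), add_neg_cancel, zpow_zero, one_smul]

theorem latImg_tw (hτ : Adm p k τ) (F : N →ₛₗ[τ] N) (r : ℤ) (s n : ℕ) (M : Submodule (WittVector p k) N) :
    _root_.Isoc.latImg (tw F r s) n M =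
      _root_.Isoc.pPow (-((n : ℤ) * r)) (_root_.Isoc.latImg F (s * n) M) := by
  rw [tw, latImg_smul_iter hτ, mul_neg]

theorem latImg_le_pPow_iff (hτ : Adm p k τ) (F : N →ₛₗ[τ] N) (r : ℤ) (s : ℕ) (M : Submodule (WittVector p k) N) :
    _root_.Isoc.latImg F s M ≤ _root_.Isoc.pPow r M ↔ _root_.Isoc.latImg (tw F r s) 1 M ≤ M := by
  rw [latImg_le_iff, latImg_le_iff]
  simp [mem_pPow, tw]

theorem latImg_eq_pPow_iff (hτ : Adm p k τ) (F : N →ₛₗ[τ] N) (r : ℤ) (s : ℕ) (M : Submodule (WittVector p k) N) :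
    _root_.Isoc.latImg F s M = _root_.Isoc.pPow r M ↔ _root_.Isoc.latImg (tw F r s) 1 M = M := by
  rw [latImg_tw hτ, mul_one, Nat.cast_one, one_mul]
  constructor
  · intro h; rw [h, pPow_pPow, neg_add_cancel, pPow_zero]
  · intro h
    conv_rhs => rw [← h, pPow_pPow, add_neg_cancel, pPow_zero]

theorem tw_bijective (hτ : Adm p k τ) {F : N →ₛₗ[τ] N} (hF : Function.Bijective F) (r : ℤ) (s : ℕ) :
    Function.Bijective (tw F r s) := by
  have h1 : Function.Bijective fun x : N => (p : FractionRing (WittVector p k)) ^ (-r) • x :=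
    ⟨fun a b h => smul_right_injective N (pz (-r)) h,
      fun y => ⟨((p : FractionRing (WittVector p k)) ^ (-r))⁻¹ • y, smul_inv_smul₀ (pz (-r)) y⟩⟩
  exact h1.comp (hF.iterate s)

variable [PerfectRing k p]

theorem noetherian_of_fg {M : Submodule (WittVector p k) N} (hM : M.FG) : IsNoetherian (WittVector p k) M :=
  isNoetherian_of_fg_of_noetherian M hM

theorem fg_of_le {M M' : Submodule (WittVector p k) N} (hM : M.FG) (h : M' ≤ M) : M'.FG := by
  have := noetherian_of_fg hM
  have : IsNoetherian (WittVector p k) M' := isNoetherian_of_le h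
  exact (Submodule.fg_top M').mp (IsNoetherian.noetherian ⊤)

/-- Each vector is carried into a spanning submodule by a power of `p`. -/
theorem exists_pow_mem {M : Submodule (WittVector p k) N} {x : N} (hx : x ∈ Submodule.span (FractionRing (WittVector p k)) (M : Set N)) :
    ∃ c : ℕ, (p : (WittVector p k)) ^ c • x ∈ M := by
  induction hx using Submodule.span_induction with
  | mem x hx => exact ⟨0, by simpa using hx⟩
  | zero => exact ⟨0, by simp⟩
  | add a b _ _ ha hb =>
    obtain ⟨c, hc⟩ := ha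
    obtain ⟨d, hd⟩ := hb
    exact ⟨c + d, by
      rw [smul_add]
      refine add_mem ?_ ?_
      · rw [add_comm, pow_add, mul_smul]; exact M.smul_mem _ hc
      · rw [pow_add, mul_smul]; exact M.smul_mem _ hd⟩
  | smul l a _ ha =>
    obtain ⟨c, hc⟩ := ha
    rcases eq_or_ne l 0 with rfl | hl
    · exact ⟨0, by simp⟩
    obtain ⟨r, u, rfl⟩ := exists_isOrdP (p := p) (k := k) hl
    refine ⟨c + (-r).toNat, ?_⟩
    obtain ⟨m, hm⟩ : ∃ m : ℕ, ((-r).toNat : ℤ) + r = m := ⟨((-r).toNat + r).toNat, by omega⟩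
    have : (p : (WittVector p k)) ^ (c + (-r).toNat) • (((p : FractionRing (WittVector p k)) ^ r * (algebraMap (WittVector p k) (FractionRing (WittVector p k))) (u : (WittVector p k))) • a) =
        ((p : (WittVector p k)) ^ m * (u : (WittVector p k))) • ((p : (WittVector p k)) ^ c • a) := by
      rw [← aL_smul ((p : (WittVector p k)) ^ (c + _)), ← aL_smul ((p : (WittVector p k)) ^ m * (u : (WittVector p k))), ← aL_smul ((p : (WittVector p k)) ^ c),
        smul_smul, smul_smul, map_mul, map_pow, map_pow, map_pow, map_natCast, pow_add,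
        ← zpow_natCast (p : FractionRing (WittVector p k)) m, ← hm, zpow_add₀ (pne (p := p) (k := k)), zpow_natCast]
      ring_nf
    rw [this]
    exact M.smul_mem _ hc

theorem exists_pPow_le {M M' : Submodule (WittVector p k) N} (hM' : M'.FG)
    (h : (M' : Set N) ⊆ Submodule.span (FractionRing (WittVector p k)) (M : Set N)) :
    ∃ c : ℕ, _root_.Isoc.pPow (c : ℤ) M' ≤ M := by
  classical
  obtain ⟨s, rfl⟩ := hM'
  choose c hc using fun x : s => exists_pow_mem (h (Submodule.subset_span x.2))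
  refine ⟨Finset.univ.sup c, fun y hy => ?_⟩
  rw [mem_pPow] at hy
  have key : ∀ z ∈ Submodule.span (WittVector p k) (s : Set N), (p : (WittVector p k)) ^ Finset.univ.sup c • z ∈ M := by
    intro z hz
    induction hz using Submodule.span_induction with
    | mem x hx =>
      obtain ⟨d, hd⟩ := Nat.le.dest (Finset.le_sup (f := c) (Finset.mem_univ (⟨x, hx⟩ : s)))
      rw [← hd, add_comm, pow_add, mul_smul]
      exact M.smul_mem _ (hc ⟨x, hx⟩)
    | zero => simp
    | add a b _ _ ha hb => rw [smul_add]; exact add_mem ha hb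
    | smul w a _ ha => rw [smul_comm]; exact M.smul_mem _ ha
  have := key _ hy
  rwa [← p_smul_eq, smul_smul, ← zpow_add₀ (pne (p := p) (k := k)), add_neg_cancel, zpow_zero,
    one_smul] at this

theorem exists_pPow_le_lattice {M M' : Submodule (WittVector p k) N} (hM : M.IsLattice (FractionRing (WittVector p k))) (hM' : M'.FG) :
    ∃ c : ℕ, _root_.Isoc.pPow (c : ℤ) M' ≤ M :=
  exists_pPow_le hM' (by rw [hM.span_eq_top]; exact fun _ _ => trivial)

theorem span_pPow (r : ℤ) (M : Submodule (WittVector p k) N) :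
    Submodule.span (FractionRing (WittVector p k)) (_root_.Isoc.pPow r M : Set N) = Submodule.span (FractionRing (WittVector p k)) (M : Set N) := by
  refine le_antisymm (Submodule.span_le.mpr fun x hx => ?_) (Submodule.span_le.mpr fun x hx => ?_)
  · rw [SetLike.mem_coe, mem_pPow] at hx
    have := Submodule.smul_mem (Submodule.span (FractionRing (WittVector p k)) (M : Set N)) ((p : FractionRing (WittVector p k)) ^ r) (Submodule.subset_span hx)
    rwa [smul_smul, ← zpow_add₀ (pne (p := p) (k := k)), add_neg_cancel, zpow_zero, one_smul] at this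
  · have h : (p : FractionRing (WittVector p k)) ^ r • x ∈ _root_.Isoc.pPow r M := by
      rw [mem_pPow, smul_smul, ← zpow_add₀ (pne (p := p) (k := k)), neg_add_cancel, zpow_zero, one_smul]
      exact hx
    have := Submodule.smul_mem (Submodule.span (FractionRing (WittVector p k)) (_root_.Isoc.pPow r M : Set N)) ((p : FractionRing (WittVector p k)) ^ (-r))
      (Submodule.subset_span h)
    rwa [smul_smul, ← zpow_add₀ (pne (p := p) (k := k)), neg_add_cancel, zpow_zero, one_smul] at this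

theorem fg_pPow (r : ℤ) {M : Submodule (WittVector p k) N} (hM : M.FG) : (_root_.Isoc.pPow r M).FG :=
  hM.map _

theorem fg_latImg (hτ : Adm p k τ) (F : N →ₛₗ[τ] N) (s : ℕ) {M : Submodule (WittVector p k) N} (hM : M.FG) :
    (_root_.Isoc.latImg F s M).FG := by
  classical
  obtain ⟨g, rfl⟩ := hM
  refine ⟨g.image (⇑F)^[s], le_antisymm ?_ ?_⟩
  · rw [Finset.coe_image, Submodule.span_le]
    rintro _ ⟨x, hx, rfl⟩
    exact Submodule.subset_span ⟨x, Submodule.subset_span hx, rfl⟩
  · rw [latImg_le_iff, Finset.coe_image]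
    intro y hy
    induction hy using Submodule.span_induction with
    | mem x hx => exact Submodule.subset_span ⟨x, hx, rfl⟩
    | zero => rw [iterate_zero']; exact zero_mem _
    | add a b _ _ ha hb => rw [iterate_add']; exact add_mem ha hb
    | smul w a _ ha =>
      obtain ⟨w', hw⟩ := exists_iterate_wsmul hτ F s w
      rw [hw]; exact Submodule.smul_mem _ _ ha

theorem span_latImg (hτ : Adm p k τ) {F : N →ₛₗ[τ] N} (hF : Function.Bijective F) (s : ℕ)
    {M : Submodule (WittVector p k) N} (hM : Submodule.span (FractionRing (WittVector p k)) (M : Set N) = ⊤) :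
    Submodule.span (FractionRing (WittVector p k)) (_root_.Isoc.latImg F s M : Set N) = ⊤ := by
  rw [eq_top_iff]
  intro x _
  obtain ⟨y, rfl⟩ := (hF.iterate s).2 x
  have hy : y ∈ Submodule.span (FractionRing (WittVector p k)) (M : Set N) := hM ▸ trivial
  induction hy using Submodule.span_induction with
  | mem x hx => exact Submodule.subset_span (Submodule.subset_span ⟨x, hx, rfl⟩)
  | zero => rw [iterate_zero']; exact zero_mem _
  | add a b _ _ ha hb => rw [iterate_add']; exact add_mem (ha trivial) (hb trivial)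
  | smul l a _ ha => rw [iterate_smul]; exact Submodule.smul_mem _ _ (ha trivial)

theorem isLattice_latImg (hτ : Adm p k τ) {F : N →ₛₗ[τ] N} (hF : Function.Bijective F) (s : ℕ)
    {M : Submodule (WittVector p k) N} (hM : M.IsLattice (FractionRing (WittVector p k))) : (_root_.Isoc.latImg F s M).IsLattice (FractionRing (WittVector p k)) :=
  ⟨fg_latImg hτ F s hM.fg, span_latImg hτ hF s hM.span_eq_top⟩

theorem isLattice_pPow (r : ℤ) {M : Submodule (WittVector p k) N} (hM : M.IsLattice (FractionRing (WittVector p k))) :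
    (_root_.Isoc.pPow r M).IsLattice (FractionRing (WittVector p k)) :=
  ⟨fg_pPow r hM.fg, (span_pPow r M).trans hM.span_eq_top⟩

/-- A finitely generated submodule is separated for the powers of `p`. -/
theorem eq_zero_of_forall_mem {M : Submodule (WittVector p k) N} (hM : M.FG) {x : N}
    (h : ∀ n : ℕ, x ∈ _root_.Isoc.pPow (n : ℤ) M) : x = 0 := by
  have hx : x ∈ M := by simpa [pPow_zero] using h 0
  have : Module.Finite (WittVector p k) M := Module.Finite.iff_fg.mpr hM
  have key := Ideal.iInf_pow_smul_eq_bot_of_isLocalRing (M := M) (Ideal.span {(p : (WittVector p k))})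
    (fun e => (prime_p (p := p) (k := k)).not_isUnit (Ideal.span_singleton_eq_top.mp e))
  have : (⟨x, hx⟩ : M) ∈ (⨅ n : ℕ, Ideal.span {(p : (WittVector p k))} ^ n • ⊤ : Submodule (WittVector p k) M) := by
    rw [Submodule.mem_iInf]
    intro n
    have hn := mem_pPow.mp (h n)
    rw [Ideal.span_singleton_pow, Submodule.ideal_span_singleton_smul]
    refine Submodule.mem_smul_pointwise_iff_exists _ _ _ |>.mpr ⟨⟨_, hn⟩, trivial, Subtype.ext ?_⟩
    show (p : (WittVector p k)) ^ n • ((p : FractionRing (WittVector p k)) ^ (-(n : ℤ)) • x) = x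
    rw [← p_smul_eq, smul_smul, ← zpow_add₀ (pne (p := p) (k := k)), add_neg_cancel, zpow_zero, one_smul]
  rw [key, Submodule.mem_bot] at this
  exact congrArg Subtype.val this

end GrothLib.Isoc
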