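import Groth.Prelude.Def_Isoc
import Mathlib.RingTheory.WittVector.Complete
import Mathlib.RingTheory.WittVector.DiscreteValuationRing

/-!
# Scalars for isocrystals: admissible twists and orders in `Frac W(k)`
-/

set_option autoImplicit false

noncomputable section

namespace GrothLib.Isoc

open scoped Isocrystal

universe u

variable {p : ℕ} [Fact p.Prime] {k : Type u} [Field k] [CharP k p]



theorem pne : (p : (FractionRing (WittVector p k))) ≠ 0 := by
  rw [← map_natCast (algebraMap (WittVector p k) (FractionRing (WittVector p k)))]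
  exact fun h => WittVector.p_nonzero p k ((IsFractionRing.to_map_eq_zero_iff).mp h)

theorem pz (r : ℤ) : (p : (FractionRing (WittVector p k))) ^ r ≠ 0 := zpow_ne_zero _ pne

/-- Twists preserving `W`, with their inverse. -/
structure Adm (p : ℕ) [Fact p.Prime] (k : Type u) [Field k]
    (τ : FractionRing (WittVector p k) →+* FractionRing (WittVector p k)) : Prop where
  maps : ∀ w : WittVector p k, ∃ w' : WittVector p k,
    τ (algebraMap _ _ w) = algebraMap (WittVector p k) (FractionRing (WittVector p k)) w'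
  onto : ∀ w' : WittVector p k, ∃ w : WittVector p k,
    τ (algebraMap _ _ w) = algebraMap (WittVector p k) (FractionRing (WittVector p k)) w'

theorem tau_p (τ : (FractionRing (WittVector p k)) →+* (FractionRing (WittVector p k))) : τ (p : (FractionRing (WittVector p k))) = (p : (FractionRing (WittVector p k))) := map_natCast τ p

theorem tau_pz (τ : (FractionRing (WittVector p k)) →+* (FractionRing (WittVector p k))) (r : ℤ) : τ ((p : (FractionRing (WittVector p k))) ^ r) = (p : (FractionRing (WittVector p k))) ^ r := by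
  rw [map_zpow₀, tau_p]

variable {τ τ' : (FractionRing (WittVector p k)) →+* (FractionRing (WittVector p k))}

theorem Adm.surjective (hτ : Adm p k τ) : Function.Surjective τ := fun x => by
  obtain ⟨a, b, -, rfl⟩ := IsFractionRing.div_surjective (A := (WittVector p k)) x
  obtain ⟨a', ha⟩ := hτ.onto a
  obtain ⟨b', hb⟩ := hτ.onto b
  exact ⟨(algebraMap (WittVector p k) (FractionRing (WittVector p k))) a' / (algebraMap (WittVector p k) (FractionRing (WittVector p k))) b', by rw [map_div₀, ha, hb]⟩

theorem Adm.bijective (hτ : Adm p k τ) : Function.Bijective τ := ⟨τ.injective, hτ.surjective⟩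

theorem Adm.one : Adm p k (1 : (FractionRing (WittVector p k)) →+* (FractionRing (WittVector p k))) := ⟨fun w => ⟨w, rfl⟩, fun w => ⟨w, rfl⟩⟩

theorem Adm.mul (hτ : Adm p k τ) (hτ' : Adm p k τ') : Adm p k (τ * τ') := by
  refine ⟨fun w => ?_, fun w => ?_⟩
  · obtain ⟨a, ha⟩ := hτ'.maps w
    obtain ⟨c, hc⟩ := hτ.maps a
    exact ⟨c, by rw [RingHom.coe_mul, Function.comp_apply, ha, hc]⟩
  · obtain ⟨a, ha⟩ := hτ.onto w
    obtain ⟨c, hc⟩ := hτ'.onto a
    exact ⟨c, by rw [RingHom.coe_mul, Function.comp_apply, hc, ha]⟩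

theorem Adm.pow (hτ : Adm p k τ) : ∀ n : ℕ, Adm p k (τ ^ n)
  | 0 => by rw [pow_zero]; exact Adm.one
  | n + 1 => by rw [pow_succ]; exact (hτ.pow n).mul hτ

theorem adm_frob [PerfectRing k p] (a : ℤ) : Adm p k (_root_.Isoc.frob p k a) :=
  ⟨fun w => ⟨_, _root_.Isoc.frob_algebraMap p k a w⟩, fun w' =>
    ⟨(WittVector.frobeniusEquiv p k ^ a).symm w', by
      rw [_root_.Isoc.frob_algebraMap, RingEquiv.apply_symm_apply]⟩⟩

variable [PerfectRing k p]

theorem prime_p : Irreducible (p : (WittVector p k)) := WittVector.irreducible p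

theorem maximalIdeal_eq : IsLocalRing.maximalIdeal (WittVector p k) = Ideal.span {(p : (WittVector p k))} :=
  (IsDiscreteValuationRing.irreducible_iff_uniformizer _).mp (prime_p (p := p) (k := k))

/-- Every nonzero scalar has an order. -/
theorem exists_isOrdP {c : (FractionRing (WittVector p k))} (hc : c ≠ 0) : ∃ r : ℤ, _root_.Isoc.IsOrdP c r := by
  obtain ⟨a, b, hb, rfl⟩ := IsFractionRing.div_surjective (A := (WittVector p k)) c
  have ha : a ≠ 0 := fun h => hc (by simp [h])
  obtain ⟨m, u, rfl⟩ := IsDiscreteValuationRing.eq_unit_mul_pow_irreducible ha (prime_p (p := p) (k := k))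
  obtain ⟨n, v, rfl⟩ := IsDiscreteValuationRing.eq_unit_mul_pow_irreducible
    (nonZeroDivisors.ne_zero hb) (prime_p (p := p) (k := k))
  refine ⟨(m : ℤ) - n, u * v⁻¹, ?_⟩
  have hv : (algebraMap (WittVector p k) (FractionRing (WittVector p k))) (v : (WittVector p k)) ≠ 0 := (v.map (algebraMap (WittVector p k) (FractionRing (WittVector p k))).toMonoidHom).ne_zero
  have h1 : (algebraMap (WittVector p k) (FractionRing (WittVector p k))) (v : (WittVector p k)) * (algebraMap (WittVector p k) (FractionRing (WittVector p k))) ((v⁻¹ : (WittVector p k)ˣ) : (WittVector p k)) = 1 := by rw [← map_mul, Units.mul_inv, map_one]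
  simp only [map_mul, map_pow, map_natCast, Units.val_mul]
  rw [zpow_sub₀ (pne (p := p) (k := k)), zpow_natCast, zpow_natCast]
  rw [eq_inv_of_mul_eq_one_right h1]
  field_simp

/-- Integrality criterion by order. -/
theorem isOrdP_nonneg {c : (FractionRing (WittVector p k))} {r : ℤ} (h : _root_.Isoc.IsOrdP c r) :
    (∃ w : (WittVector p k), (algebraMap (WittVector p k) (FractionRing (WittVector p k))) w = c) ↔ 0 ≤ r := by
  obtain ⟨u, rfl⟩ := h
  constructor
  · rintro ⟨w, hw⟩
    by_contra hr
    push Not at hr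
    obtain ⟨n, hn⟩ : ∃ n : ℕ, r = -((n : ℤ) + 1) := ⟨(-r - 1).toNat, by omega⟩
    have : (algebraMap (WittVector p k) (FractionRing (WittVector p k))) (w * (p : (WittVector p k)) ^ (n + 1)) = (algebraMap (WittVector p k) (FractionRing (WittVector p k))) (u : (WittVector p k)) := by
      rw [map_mul, map_pow, map_natCast, hw, hn, zpow_neg, show ((n : ℤ) + 1) = ((n + 1 : ℕ) : ℤ) by simp,
        zpow_natCast]
      field_simp [pne (p := p) (k := k)]
    have h2 := IsFractionRing.injective (WittVector p k) (FractionRing (WittVector p k)) this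
    have h3 : (p : (WittVector p k)) ∣ (u : (WittVector p k)) := ⟨w * (p : (WittVector p k)) ^ n, by rw [← h2]; ring⟩
    exact (prime_p (p := p) (k := k)).not_isUnit (isUnit_of_dvd_unit h3 u.isUnit)
  · intro hr
    obtain ⟨n, rfl⟩ := Int.eq_ofNat_of_zero_le hr
    exact ⟨(p : (WittVector p k)) ^ n * u, by simp [map_mul, map_pow, zpow_natCast]⟩

theorem isOrdP_mul {c c' : (FractionRing (WittVector p k))} {r r' : ℤ} (h : _root_.Isoc.IsOrdP c r)
    (h' : _root_.Isoc.IsOrdP c' r') : _root_.Isoc.IsOrdP (c * c') (r + r') := by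
  obtain ⟨u, rfl⟩ := h
  obtain ⟨v, rfl⟩ := h'
  exact ⟨u * v, by rw [zpow_add₀ (pne (p := p) (k := k)), Units.val_mul, map_mul]; ring⟩

theorem isOrdP_zpow (r : ℤ) : _root_.Isoc.IsOrdP ((p : (FractionRing (WittVector p k))) ^ r) r := ⟨1, by simp⟩

theorem isOrdP_one : _root_.Isoc.IsOrdP (1 : (FractionRing (WittVector p k))) 0 := ⟨1, by simp⟩

theorem isOrdP_ne {c : (FractionRing (WittVector p k))} {r : ℤ} (h : _root_.Isoc.IsOrdP c r) : c ≠ 0 := by
  obtain ⟨u, rfl⟩ := h
  exact mul_ne_zero (pz r) (u.map (algebraMap (WittVector p k) (FractionRing (WittVector p k))).toMonoidHom).ne_zero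

theorem isOrdP_unique {c : (FractionRing (WittVector p k))} {r r' : ℤ} (h : _root_.Isoc.IsOrdP c r)
    (h' : _root_.Isoc.IsOrdP c r') : r = r' := by
  have key : ∀ {a b : ℤ}, _root_.Isoc.IsOrdP c a → _root_.Isoc.IsOrdP c b → b ≤ a := by
    intro a b ha hb
    have h1 := isOrdP_mul ha (isOrdP_zpow (p := p) (k := k) (-b))
    have h2 := isOrdP_mul hb (isOrdP_zpow (p := p) (k := k) (-b))
    have := (isOrdP_nonneg h1).mp ((isOrdP_nonneg h2).mpr (by simp))
    omega
  exact le_antisymm (key h' h) (key h h')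

theorem isOrdP_map (hτ : Adm p k τ) {c : (FractionRing (WittVector p k))} {r : ℤ} (h : _root_.Isoc.IsOrdP c r) :
    _root_.Isoc.IsOrdP (p := p) (k := k) (τ c) r := by
  obtain ⟨u, rfl⟩ := h
  obtain ⟨w, hw⟩ := hτ.maps (u : (WittVector p k))
  obtain ⟨w', hw'⟩ := hτ.maps ((u⁻¹ : (WittVector p k)ˣ) : (WittVector p k))
  have h1 : w * w' = 1 := IsFractionRing.injective (WittVector p k) (FractionRing (WittVector p k)) (by
    show (algebraMap (WittVector p k) (FractionRing (WittVector p k))) (w * w') = (algebraMap (WittVector p k) (FractionRing (WittVector p k))) 1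
    rw [map_mul, map_one]
    rw [← hw, ← hw', ← map_mul, ← map_mul, Units.mul_inv, map_one, map_one])
  refine ⟨Units.mkOfMulEqOne w w' h1, ?_⟩
  rw [map_mul, tau_pz, hw]
  rfl

/-- A vector of `L` that lies in `p^r W` for all `r` is zero. -/
theorem eq_zero_of_forall_pow_dvd {c : (FractionRing (WittVector p k))} (h : ∀ n : ℕ, ∃ w : (WittVector p k), (algebraMap (WittVector p k) (FractionRing (WittVector p k))) w = (p : (FractionRing (WittVector p k))) ^ (-(n : ℤ)) * c) :
    c = 0 := by
  by_contra hc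
  obtain ⟨r, hr⟩ := exists_isOrdP hc
  have h1 := isOrdP_mul (isOrdP_zpow (p := p) (k := k) (-((r.toNat + 1 : ℕ) : ℤ))) hr
  have := (isOrdP_nonneg h1).mp (h _)
  omega

end GrothLib.Isoc
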