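import Groth.Agent.Lib.Isoc.Det
import Mathlib.Analysis.Subadditive
import Mathlib.Analysis.SpecificLimits.Normed
import Mathlib.NumberTheory.DiophantineApproximation.Basic

/-!
# The first slope of an isocrystal, effectivity, rationality
-/

set_option autoImplicit false

noncomputable section

namespace GrothLib.Isoc

open scoped Isocrystal Pointwise
open Filter Topology

universe u v

variable {p : ℕ} [Fact p.Prime] {k : Type u} [Field k] [CharP k p]
variable {N : Type v} [AddCommGroup N] [Module (WittVector p k) N]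
  [Module (FractionRing (WittVector p k)) N]
  [IsScalarTower (WittVector p k) (FractionRing (WittVector p k)) N]
variable {τ : FractionRing (WittVector p k) →+* FractionRing (WittVector p k)}

theorem pPow_le_pPow_iff {a b : ℤ} {X Y : Submodule (WittVector p k) N} :
    _root_.Isoc.pPow a X ≤ _root_.Isoc.pPow b Y ↔ X ≤ _root_.Isoc.pPow (b - a) Y := by
  constructor
  · intro h
    have := pPow_mono (r := -a) h
    rwa [pPow_pPow, pPow_pPow, neg_add_cancel, pPow_zero, show -a + b = b - a by ring] at this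
  · intro h
    have := pPow_mono (r := a) h
    rwa [pPow_pPow, show a + (b - a) = b by ring] at this

theorem latImg_add_le (hτ : Adm p k τ) {F : N →ₛₗ[τ] N} {s t : ℕ} {r r' : ℤ}
    {M : Submodule (WittVector p k) N} (h : _root_.Isoc.latImg F s M ≤ _root_.Isoc.pPow r M)
    (h' : _root_.Isoc.latImg F t M ≤ _root_.Isoc.pPow r' M) :
    _root_.Isoc.latImg F (s + t) M ≤ _root_.Isoc.pPow (r + r') M := by
  rw [latImg_add hτ, add_comm r r', ← pPow_pPow]
  refine (latImg_mono h').trans ?_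
  rw [latImg_pPow hτ]
  exact pPow_mono h

theorem latImg_mul_le (hτ : Adm p k τ) {F : N →ₛₗ[τ] N} {s : ℕ} {r : ℤ}
    {M : Submodule (WittVector p k) N} (h : _root_.Isoc.latImg F s M ≤ _root_.Isoc.pPow r M) :
    ∀ n : ℕ, _root_.Isoc.latImg F (n * s) M ≤ _root_.Isoc.pPow ((n : ℤ) * r) M
  | 0 => by simp [latImg_zero, pPow_zero]
  | n + 1 => by
    rw [Nat.succ_mul, Nat.cast_succ, add_mul, one_mul]
    exact latImg_add_le hτ (latImg_mul_le hτ h n) h

theorem latImg_mul_eq (hτ : Adm p k τ) {F : N →ₛₗ[τ] N} {s : ℕ} {r : ℤ}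
    {M : Submodule (WittVector p k) N} (h : _root_.Isoc.latImg F s M = _root_.Isoc.pPow r M) :
    ∀ n : ℕ, _root_.Isoc.latImg F (n * s) M = _root_.Isoc.pPow ((n : ℤ) * r) M
  | 0 => by simp [latImg_zero, pPow_zero]
  | n + 1 => by
    rw [Nat.succ_mul, Nat.cast_succ, add_mul, one_mul, latImg_add hτ, h, latImg_pPow hτ,
      latImg_mul_eq hτ h n, pPow_pPow, add_comm]

theorem nontrivial_of_isOrd {M : Submodule (WittVector p k) N} {F : N →ₛₗ[τ] N} {s : ℕ} {o : ℤ}
    (h : _root_.Isoc.IsOrd M F s o) : Nontrivial N := by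
  by_contra hN
  rw [not_nontrivial_iff_subsingleton] at hN
  exact h.2 fun x _ => by rw [Subsingleton.elim x 0]; exact zero_mem _

theorem nontrivial_of_isFirstSlope {F : N →ₛₗ[τ] N} {lam : ℝ}
    (h : _root_.Isoc.IsFirstSlope F lam) : Nontrivial N := by
  obtain ⟨M, -, o, ho, -⟩ := h
  exact nontrivial_of_isOrd (ho 1 le_rfl)

theorem latImg_compare (hτ : Adm p k τ) {F : N →ₛₗ[τ] N} {n : ℕ} {r : ℤ} {c c' : ℤ}
    {M₁ M₂ : Submodule (WittVector p k) N}
    (h : _root_.Isoc.latImg F n M₂ ≤ _root_.Isoc.pPow r M₂)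
    (hc : _root_.Isoc.pPow c M₂ ≤ M₁) (hc' : _root_.Isoc.pPow c' M₁ ≤ M₂) :
    _root_.Isoc.latImg F n M₁ ≤ _root_.Isoc.pPow (r - c - c') M₁ := by
  have h1 : M₁ ≤ _root_.Isoc.pPow (-c') M₂ := by
    have := pPow_mono (r := -c') hc'
    rwa [pPow_pPow, neg_add_cancel, pPow_zero] at this
  have h2 : M₂ ≤ _root_.Isoc.pPow (-c) M₁ := by
    have := pPow_mono (r := -c) hc
    rwa [pPow_pPow, neg_add_cancel, pPow_zero] at this
  refine (latImg_mono h1).trans ?_
  rw [latImg_pPow hτ]
  refine (pPow_mono (h.trans (pPow_mono h2))).trans ?_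
  rw [pPow_pPow, pPow_pPow, show -c' + r + -c = r - c - c' by ring]

variable [PerfectRing k p]

theorem not_le_pPow_one [Nontrivial N] {M : Submodule (WittVector p k) N}
    (hM : M.IsLattice (FractionRing (WittVector p k))) : ¬ M ≤ _root_.Isoc.pPow 1 M := by
  intro h
  have hn : ∀ n : ℕ, M ≤ _root_.Isoc.pPow (n : ℤ) M := by
    intro n
    induction n with
    | zero => simp [pPow_zero]
    | succ n ih =>
      refine ih.trans ((pPow_mono h).trans ?_)
      rw [pPow_pPow, Nat.cast_succ]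
  have : M = ⊥ := (Submodule.eq_bot_iff _).mpr fun x hx =>
    eq_zero_of_forall_mem hM.fg fun n => hn n hx
  have htop := hM.span_eq_top
  simp [this] at htop

theorem isOrd_of_eq (hτ : Adm p k τ) [Nontrivial N] {F : N →ₛₗ[τ] N} {s : ℕ} {r : ℤ}
    {M : Submodule (WittVector p k) N} (hM : M.IsLattice (FractionRing (WittVector p k)))
    (h : _root_.Isoc.latImg F s M = _root_.Isoc.pPow r M) (n : ℕ) :
    _root_.Isoc.IsOrd M F (n * s) ((n : ℤ) * r) := by
  have e := latImg_mul_eq hτ h n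
  refine ⟨e.le, fun hle => not_le_pPow_one hM ?_⟩
  rw [e, pPow_le_pPow_iff] at hle
  rwa [show (n : ℤ) * r + 1 - (n : ℤ) * r = 1 by ring] at hle

/-! ### Existence and uniqueness of the first slope -/

theorem exists_ord_seq (hτ : Adm p k τ) {F : N →ₛₗ[τ] N}
    [Module.Finite (FractionRing (WittVector p k)) N] [Nontrivial N] (hF : Function.Bijective F)
    {M : Submodule (WittVector p k) N} (hM : M.IsLattice (FractionRing (WittVector p k))) :
    ∃ o : ℕ → ℤ, (∀ n, _root_.Isoc.IsOrd M F n (o n)) ∧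
      ∃ lam : ℝ, Tendsto (fun n : ℕ => (o n : ℝ) / n) atTop (𝓝 lam) := by
  choose o ho using fun n => exists_isOrd hτ hF hM n
  refine ⟨o, ho, ?_⟩
  obtain ⟨d, hd⟩ := exists_ordDet hτ hF
  set h := Module.finrank (FractionRing (WittVector p k)) N with hdef
  have hpos : 0 < h := Module.finrank_pos
  have hsub : Subadditive (fun n => -(o n : ℝ)) := fun m n => by
    have := (isOrd_le_iff (ho (m + n))).mp (latImg_add_le hτ (ho m).1 (ho n).1)
    have : ((o m : ℤ) : ℝ) + (o n : ℝ) ≤ (o (m + n) : ℝ) := by exact_mod_cast this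
    linarith
  have hbdd : BddBelow (Set.range fun n : ℕ => -(o n : ℝ) / n) := by
    refine ⟨min 0 (-((d : ℝ) / h)), ?_⟩
    rintro _ ⟨n, rfl⟩
    rcases Nat.eq_zero_or_pos n with rfl | hn
    · simp
    · refine (min_le_right _ _).trans ?_
      have e : (o n : ℝ) * h ≤ (n : ℝ) * d := by exact_mod_cast ord_mul_le hτ hd hM (ho n).1
      have hh : (0 : ℝ) < h := by exact_mod_cast hpos
      have hn' : (0 : ℝ) < n := by exact_mod_cast hn
      show -((d : ℝ) / h) ≤ -(o n : ℝ) / n
      rw [neg_div, neg_le_neg_iff, div_le_div_iff₀ hn' hh]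
      linarith
  refine ⟨-hsub.lim, ?_⟩
  have := (hsub.tendsto_lim hbdd).neg
  simpa [neg_div] using this

theorem slope_eq (hτ : Adm p k τ) {F : N →ₛₗ[τ] N}
    {M₁ M₂ : Submodule (WittVector p k) N} (hM₁ : M₁.IsLattice (FractionRing (WittVector p k)))
    (hM₂ : M₂.IsLattice (FractionRing (WittVector p k))) {o₁ o₂ : ℕ → ℤ}
    (ho₁ : ∀ n : ℕ, 1 ≤ n → _root_.Isoc.IsOrd M₁ F n (o₁ n))
    (ho₂ : ∀ n : ℕ, 1 ≤ n → _root_.Isoc.IsOrd M₂ F n (o₂ n)) {lam₁ lam₂ : ℝ}
    (h₁ : Tendsto (fun n : ℕ => (o₁ n : ℝ) / n) atTop (𝓝 lam₁))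
    (h₂ : Tendsto (fun n : ℕ => (o₂ n : ℝ) / n) atTop (𝓝 lam₂)) : lam₁ = lam₂ := by
  obtain ⟨c, hc⟩ := exists_pPow_le_lattice hM₁ hM₂.fg
  obtain ⟨c', hc'⟩ := exists_pPow_le_lattice hM₂ hM₁.fg
  have key : ∀ n : ℕ, 1 ≤ n → |(o₁ n : ℝ) / n - (o₂ n : ℝ) / n| ≤ ((c : ℝ) + c') / n := by
    intro n hn
    have e1 := (isOrd_le_iff (ho₁ n hn)).mp (latImg_compare hτ (ho₂ n hn).1 hc hc')
    have e2 := (isOrd_le_iff (ho₂ n hn)).mp (latImg_compare hτ (ho₁ n hn).1 hc' hc)
    have e1' : (o₂ n : ℝ) - c - c' ≤ o₁ n := by exact_mod_cast e1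
    have e2' : (o₁ n : ℝ) - c' - c ≤ o₂ n := by exact_mod_cast e2
    rw [← sub_div, abs_div, Nat.abs_cast]
    gcongr
    rw [abs_le]; constructor <;> linarith
  have h0 : Tendsto (fun n : ℕ => (o₁ n : ℝ) / n - (o₂ n : ℝ) / n) atTop (𝓝 0) :=
    squeeze_zero_norm' (Filter.eventually_atTop.mpr ⟨1, fun n hn => by simpa using key n hn⟩)
      (tendsto_const_div_atTop_nhds_zero_nat _)
  linarith [tendsto_nhds_unique (h₁.sub h₂) h0]

theorem isFirstSlope_unique (hτ : Adm p k τ) {F : N →ₛₗ[τ] N} {lam lam' : ℝ}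
    (h : _root_.Isoc.IsFirstSlope F lam) (h' : _root_.Isoc.IsFirstSlope F lam') : lam = lam' := by
  obtain ⟨M, hM, o, ho, ht⟩ := h
  obtain ⟨M', hM', o', ho', ht'⟩ := h'
  exact slope_eq hτ hM hM' ho ho' ht ht'

theorem exists_ord_seq_of_isFirstSlope (hτ : Adm p k τ) {F : N →ₛₗ[τ] N}
    [Module.Finite (FractionRing (WittVector p k)) N] (hF : Function.Bijective F) {lam : ℝ}
    (hl : _root_.Isoc.IsFirstSlope F lam) {M : Submodule (WittVector p k) N}
    (hM : M.IsLattice (FractionRing (WittVector p k))) :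
    ∃ o : ℕ → ℤ, (∀ n, _root_.Isoc.IsOrd M F n (o n)) ∧
      Tendsto (fun n : ℕ => (o n : ℝ) / n) atTop (𝓝 lam) := by
  have := nontrivial_of_isFirstSlope hl
  obtain ⟨o, ho, lam', ht⟩ := exists_ord_seq hτ hF hM
  have : lam = lam' := isFirstSlope_unique hτ hl ⟨M, hM, o, fun n _ => ho n, ht⟩
  exact ⟨o, ho, this ▸ ht⟩

theorem le_slope_of_latImg_le (hτ : Adm p k τ) {F : N →ₛₗ[τ] N}
    [Module.Finite (FractionRing (WittVector p k)) N] (hF : Function.Bijective F) {lam : ℝ}
    (hl : _root_.Isoc.IsFirstSlope F lam) {M : Submodule (WittVector p k) N}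
    (hM : M.IsLattice (FractionRing (WittVector p k))) {r : ℤ} {s : ℕ} (hs : 0 < s)
    (h : _root_.Isoc.latImg F s M ≤ _root_.Isoc.pPow r M) : (r : ℝ) / s ≤ lam := by
  obtain ⟨o, ho, ht⟩ := exists_ord_seq_of_isFirstSlope hτ hF hl hM
  have ht' : Tendsto (fun n : ℕ => (o (n * s) : ℝ) / ((n * s : ℕ) : ℝ)) atTop (𝓝 lam) :=
    ht.comp (tendsto_atTop_atTop.mpr fun b => ⟨b, fun n hn => hn.trans (Nat.le_mul_of_pos_right n hs)⟩)
  refine ge_of_tendsto ht' (Filter.eventually_atTop.mpr ⟨1, fun n hn => ?_⟩)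
  have e : ((n : ℤ) : ℝ) * r ≤ (o (n * s) : ℝ) := by
    exact_mod_cast (isOrd_le_iff (ho (n * s))).mp (latImg_mul_le hτ h n)
  have hs' : (0 : ℝ) < s := by exact_mod_cast hs
  have hn' : (0 : ℝ) < n := by exact_mod_cast hn
  rw [Nat.cast_mul, div_le_div_iff₀ hs' (by positivity)]
  push_cast at e
  nlinarith

theorem isFirstSlope_smul_iter (hτ : Adm p k τ) {F : N →ₛₗ[τ] N}
    [Module.Finite (FractionRing (WittVector p k)) N] (hF : Function.Bijective F) {lam : ℝ}
    (hl : _root_.Isoc.IsFirstSlope F lam) (m : ℤ) (n : ℕ) :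
    _root_.Isoc.IsFirstSlope ((p : FractionRing (WittVector p k)) ^ m • _root_.Isoc.iter F n)
      ((n : ℝ) * lam + m) := by
  obtain ⟨M, hM, -⟩ := id hl
  obtain ⟨o, ho, ht⟩ := exists_ord_seq_of_isFirstSlope hτ hF hl hM
  refine ⟨M, hM, fun j => o (n * j) + (j : ℤ) * m, fun j _ => ?_, ?_⟩
  · rw [_root_.Isoc.IsOrd, latImg_smul_iter hτ, pPow_le_pPow_iff, pPow_le_pPow_iff]
    refine ⟨?_, ?_⟩
    · rw [add_sub_cancel_right]; exact (ho _).1
    · rw [show o (n * j) + (j : ℤ) * m + 1 - (j : ℤ) * m = o (n * j) + 1 by ring]; exact (ho _).2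
  · have hlin : Tendsto (fun j : ℕ => (o (n * j) : ℝ) / j) atTop (𝓝 ((n : ℝ) * lam)) := by
      rcases Nat.eq_zero_or_pos n with rfl | hn
      · simpa using tendsto_const_div_atTop_nhds_zero_nat (o 0 : ℝ)
      · have hn' : (n : ℝ) ≠ 0 := by positivity
        refine ((ht.comp (tendsto_atTop_atTop.mpr fun b =>
          ⟨b, fun j hj => hj.trans (Nat.le_mul_of_pos_left j hn)⟩)).const_mul (n : ℝ)).congr fun j => ?_
        simp only [Function.comp_apply, Nat.cast_mul]
        rw [← mul_div_assoc, mul_div_mul_left _ _ hn']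
    refine (hlin.add_const (m : ℝ)).congr' (Filter.eventually_atTop.mpr ⟨1, fun j hj => ?_⟩)
    have hj' : (j : ℝ) ≠ 0 := by
      have : (0 : ℝ) < j := by exact_mod_cast hj
      exact this.ne'
    push_cast
    field_simp

/-! ### Effectivity -/

/-- The sum `M + F M + ⋯ + F^j M`. -/
def filA (F : N →ₛₗ[τ] N) (M : Submodule (WittVector p k) N) (j : ℕ) :
    Submodule (WittVector p k) N :=
  ⨆ i : Fin (j + 1), _root_.Isoc.latImg F (i : ℕ) M

omit [PerfectRing k p] in
theorem latImg_le_filA (F : N →ₛₗ[τ] N) (M : Submodule (WittVector p k) N) {i j : ℕ} (h : i ≤ j) :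
    _root_.Isoc.latImg F i M ≤ filA F M j :=
  le_iSup (fun i : Fin (j + 1) => _root_.Isoc.latImg F (i : ℕ) M) ⟨i, by omega⟩

omit [PerfectRing k p] in
theorem filA_mono (F : N →ₛₗ[τ] N) (M : Submodule (WittVector p k) N) {i j : ℕ} (h : i ≤ j) :
    filA F M i ≤ filA F M j :=
  iSup_le fun a => latImg_le_filA F M (by omega)

omit [PerfectRing k p] in
theorem le_filA (F : N →ₛₗ[τ] N) (M : Submodule (WittVector p k) N) (j : ℕ) : M ≤ filA F M j := by
  simpa [latImg_zero] using latImg_le_filA F M (Nat.zero_le j)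

omit [PerfectRing k p] in
theorem latImg_filA_le (hτ : Adm p k τ) (F : N →ₛₗ[τ] N) (M : Submodule (WittVector p k) N)
    (t j : ℕ) : _root_.Isoc.latImg F t (filA F M j) ≤ filA F M (t + j) := by
  rw [filA, latImg_sup hτ]
  refine iSup_le fun i => ?_
  rw [← latImg_add hτ]
  exact latImg_le_filA F M (by omega)

omit [PerfectRing k p] in
theorem filA_succ_le (hτ : Adm p k τ) (F : N →ₛₗ[τ] N) (M : Submodule (WittVector p k) N) (j : ℕ) :
    filA F M (j + 1) ≤ M ⊔ _root_.Isoc.latImg F 1 (filA F M j) := by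
  refine iSup_le fun i => ?_
  obtain ⟨_ | i, hi⟩ := i
  · simp [latImg_zero]
  · refine le_sup_of_le_right ?_
    show _root_.Isoc.latImg F (i + 1) M ≤ _
    rw [show i + 1 = 1 + i by ring, latImg_add hτ]
    exact latImg_mono (latImg_le_filA F M (by omega))

/-- A chain of sublattices between `p A` and `A` longer than the height is not strict. -/
theorem exists_chain_eq {A : Submodule (WittVector p k) N}
    (hA : A.IsLattice (FractionRing (WittVector p k))) {h : ℕ}
    (b : Module.Basis (Fin h) (FractionRing (WittVector p k)) N)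
    (B : ℕ → Submodule (WittVector p k) N) (hle : ∀ j ≤ h, B j ≤ A)
    (hp : ∀ j ≤ h, _root_.Isoc.pPow 1 A ≤ B j) (hmono : ∀ j < h, B j ≤ B (j + 1))
    (hne : ¬ B 0 ≤ _root_.Isoc.pPow 1 A) : ∃ j < h, B (j + 1) ≤ B j := by
  classical
  by_contra hcon
  push Not at hcon
  have := hA
  have := Submodule.IsLattice.free (K := FractionRing (WittVector p k)) A
  let e0 := Module.Free.chooseBasis (WittVector p k) A
  let e : Module.Basis (Fin h) (WittVector p k) A :=
    e0.reindex ((e0.extendOfIsLattice (FractionRing (WittVector p k))).indexEquiv b)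
  have : RingHomSurjective (WittVector.constantCoeff : WittVector p k →+* k) :=
    ⟨fun x => ⟨WittVector.teichmuller p x, by simp⟩⟩
  let φ : A →ₛₗ[(WittVector.constantCoeff : WittVector p k →+* k)] (Fin h → k) :=
    { toFun := fun x i => WittVector.constantCoeff (e.repr x i)
      map_add' := fun x y => by ext i; simp only [map_add, Finsupp.add_apply, Pi.add_apply]
      map_smul' := fun w x => by
        ext i; simp only [map_smul, Finsupp.smul_apply, smul_eq_mul, map_mul, Pi.smul_apply] }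
  have hker : ∀ x : A, φ x = 0 → (x : N) ∈ _root_.Isoc.pPow 1 A := by
    intro x hx
    have hdvd : ∀ i, (p : WittVector p k) ∣ e.repr x i := by
      intro i
      have h0 : WittVector.constantCoeff (e.repr x i) = 0 := congrFun hx i
      rw [← Ideal.mem_span_singleton, ← maximalIdeal_eq, IsLocalRing.mem_maximalIdeal]
      intro hu
      exact (hu.map WittVector.constantCoeff).ne_zero h0
    choose w hw using hdvd
    have hxe : x = (p : WittVector p k) • ∑ i, w i • e i := by
      conv_lhs => rw [← e.sum_repr x]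
      rw [Finset.smul_sum]
      exact Finset.sum_congr rfl fun i _ => by rw [smul_smul, ← hw]
    rw [hxe, mem_pPow, Submodule.coe_smul]
    have : (p : FractionRing (WittVector p k)) ^ (-1 : ℤ) •
        ((p : WittVector p k) • ((∑ i, w i • e i : A) : N)) = ((∑ i, w i • e i : A) : N) := by
      conv_lhs => rw [← pow_one (p : WittVector p k), ← p_smul_eq, smul_smul,
        ← zpow_add₀ (pne (p := p) (k := k))]
      simp
    rw [this]
    exact Subtype.coe_prop _
  let S : ℕ → Submodule k (Fin h → k) := fun j => ((B j).comap A.subtype).map φ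
  have hS : ∀ j < h, S j < S (j + 1) := by
    intro j hj
    refine lt_of_le_of_ne (Submodule.map_mono (Submodule.comap_mono (hmono j hj))) fun heq => ?_
    refine hcon j hj fun x hx => ?_
    have hx' : (⟨x, hle _ (by omega) hx⟩ : A) ∈ (B (j + 1)).comap A.subtype := hx
    have hmem : φ ⟨x, hle _ (by omega) hx⟩ ∈ S j := heq ▸ Submodule.mem_map_of_mem hx'
    obtain ⟨y, hy, hxy⟩ := Submodule.mem_map.mp hmem
    have := hker (⟨x, hle _ (by omega) hx⟩ - y) (by rw [map_sub, hxy, sub_self])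
    have := add_mem (hp j hj.le this) (show (y : N) ∈ B j from hy)
    simpa using this
  have h0 : 1 ≤ Module.finrank k (S 0) := by
    rw [Nat.one_le_iff_ne_zero, Ne, Submodule.finrank_eq_zero]
    intro hbot
    refine hne fun x hx => hker ⟨x, hle 0 (Nat.zero_le _) hx⟩ ?_
    have : φ ⟨x, hle 0 (Nat.zero_le _) hx⟩ ∈ S 0 := Submodule.mem_map_of_mem (show _ ∈ _ from hx)
    rwa [hbot, Submodule.mem_bot] at this
  have hgrow : ∀ j ≤ h, j + 1 ≤ Module.finrank k (S j) := by
    intro j hj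
    induction j with
    | zero => exact h0
    | succ j ih =>
      have := Submodule.finrank_lt_finrank_of_lt (hS j (by omega))
      have := ih (by omega)
      omega
  have := hgrow h le_rfl
  have := Submodule.finrank_le (S h)
  rw [Module.finrank_fin_fun] at this
  omega

theorem isEffective_of_latImg_succ_le (hτ : Adm p k τ) {F : N →ₛₗ[τ] N}
    [Module.Finite (FractionRing (WittVector p k)) N]
    {h : ℕ} (hh : Module.finrank (FractionRing (WittVector p k)) N = h)
    {M : Submodule (WittVector p k) N} (hM : M.IsLattice (FractionRing (WittVector p k)))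
    (hFM : _root_.Isoc.latImg F (h + 1) M ≤ _root_.Isoc.pPow (-1) M) :
    _root_.Isoc.IsEffective F := by
  rcases Nat.eq_zero_or_pos h with rfl | hpos
  · have := Module.finrank_zero_iff.mp hh
    exact ⟨M, hM, fun x _ => by rw [Subsingleton.elim x 0]; exact zero_mem _⟩
  have hp : ∀ t, _root_.Isoc.pPow 1 (_root_.Isoc.latImg F (t + (h + 1)) M) ≤
      _root_.Isoc.latImg F t M := by
    intro t
    rw [latImg_add hτ]
    refine (pPow_mono (latImg_mono hFM)).trans ?_
    rw [latImg_pPow hτ, pPow_pPow, add_neg_cancel, pPow_zero]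
  set A := filA F M h with hAdef
  have hA : A.IsLattice (FractionRing (WittVector p k)) := by
    constructor
    · exact Submodule.fg_iSup _ fun i => fg_latImg hτ F _ hM.fg
    · rw [eq_top_iff, ← hM.span_eq_top]
      exact Submodule.span_mono (le_filA F M h)
  have hpA : _root_.Isoc.pPow 1 A ≤ A := by
    simpa [pPow_zero] using pPow_anti (zero_le_one : (0 : ℤ) ≤ 1) A
  have hpbig : ∀ i ≤ 2 * h + 1, _root_.Isoc.pPow 1 (filA F M i) ≤ A := by
    intro i hi
    rw [filA, pPow_sup]
    refine iSup_le fun a => ?_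
    rcases le_or_gt (a : ℕ) h with ha | ha
    · exact (pPow_mono (latImg_le_filA F M ha)).trans hpA
    · obtain ⟨t, ht⟩ : ∃ t, (a : ℕ) = t + (h + 1) := ⟨(a : ℕ) - (h + 1), by omega⟩
      rw [ht]
      exact (hp t).trans (latImg_le_filA F M (by omega))
  obtain ⟨j, hj, hstat⟩ : ∃ j < h, filA F M (j + 1) ≤ filA F M j ⊔ _root_.Isoc.pPow 1 A := by
    by_cases hM1 : M ≤ _root_.Isoc.pPow 1 A
    · refine ⟨h - 1, by omega, ?_⟩
      rw [Nat.sub_add_cancel hpos]
      refine iSup_le fun i => ?_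
      refine ((latImg_mono hM1).trans (latImg_pPow hτ F _ _ _).le).trans ?_
      refine (pPow_mono (latImg_filA_le hτ F M _ h)).trans ?_
      rw [filA, pPow_sup]
      refine iSup_le fun a => ?_
      rcases le_or_gt (a : ℕ) h with ha | ha
      · exact le_sup_of_le_right (pPow_mono (latImg_le_filA F M ha))
      · obtain ⟨t, ht⟩ : ∃ t, (a : ℕ) = t + (h + 1) := ⟨(a : ℕ) - (h + 1), by omega⟩
        rw [ht]
        exact le_sup_of_le_left ((hp t).trans (latImg_le_filA F M (by omega)))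
    · obtain ⟨j, hj, hle⟩ := exists_chain_eq hA (Module.finBasisOfFinrankEq _ _ hh)
        (fun j => filA F M j ⊔ _root_.Isoc.pPow 1 A)
        (fun j hj => sup_le (filA_mono F M hj) hpA) (fun j _ => le_sup_right)
        (fun j _ => sup_le_sup_right (filA_mono F M (Nat.le_succ j)) _)
        (fun hle => hM1 ((le_filA F M 0).trans (le_sup_left.trans hle)))
      exact ⟨j, hj, le_sup_left.trans hle⟩
  have key : ∀ t, filA F M (j + 1 + t) ≤ filA F M j ⊔ _root_.Isoc.pPow 1 (filA F M (h + t)) := by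
    intro t
    induction t with
    | zero => exact hstat
    | succ t ih =>
      have hA' : _root_.Isoc.pPow 1 A ≤ _root_.Isoc.pPow 1 (filA F M (h + (t + 1))) :=
        pPow_mono (filA_mono F M (by omega))
      refine (filA_succ_le hτ F M (j + 1 + t)).trans ?_
      refine sup_le (le_sup_of_le_left (le_filA F M j)) ?_
      refine (latImg_mono ih).trans ?_
      rw [sup_eq_iSup, latImg_sup hτ]
      refine iSup_le fun c => ?_
      cases c
      · refine le_sup_of_le_right ?_
        show _root_.Isoc.latImg F 1 (_root_.Isoc.pPow 1 (filA F M (h + t))) ≤ _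
        rw [latImg_pPow hτ]
        exact pPow_mono ((latImg_filA_le hτ F M 1 (h + t)).trans (filA_mono F M (by omega)))
      · refine ((latImg_filA_le hτ F M 1 j).trans ?_).trans (sup_le_sup_left hA' _)
        rw [add_comm 1 j]
        exact hstat
  refine ⟨A, hA, ?_⟩
  refine (latImg_filA_le hτ F M 1 h).trans ?_
  have := key (h - j)
  rw [show j + 1 + (h - j) = h + 1 by omega] at this
  rw [add_comm 1 h]
  exact this.trans (sup_le (filA_mono F M (by omega)) (hpbig _ (by omega)))

theorem exists_latImg_le_of_le_slope (hτ : Adm p k τ) {F : N →ₛₗ[τ] N}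
    [Module.Finite (FractionRing (WittVector p k)) N] (hF : Function.Bijective F) {lam : ℝ}
    (hl : _root_.Isoc.IsFirstSlope F lam) {r : ℤ} {s : ℕ} (hs : 0 < s)
    (hrs : (r : ℝ) / s ≤ lam) :
    ∃ M : Submodule (WittVector p k) N, M.IsLattice (FractionRing (WittVector p k)) ∧
      _root_.Isoc.latImg F s M ≤ _root_.Isoc.pPow r M := by
  obtain ⟨M₀, hM₀, -⟩ := id hl
  obtain ⟨o, ho, ht⟩ := exists_ord_seq_of_isFirstSlope hτ hF hl hM₀
  set h := Module.finrank (FractionRing (WittVector p k)) N with hh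
  set S : ℕ := (h + 1) * s with hS
  set R : ℤ := ((h : ℤ) + 1) * r - 1 with hR
  have hS0 : 0 < S := by positivity
  have hs' : (0 : ℝ) < s := by exact_mod_cast hs
  have hlt : (R : ℝ) / S < lam := by
    refine lt_of_lt_of_le ?_ hrs
    rw [div_lt_div_iff₀ (by exact_mod_cast hS0) hs', hR, hS]
    push_cast
    nlinarith
  obtain ⟨n₀, hn₀⟩ := Filter.eventually_atTop.mp (ht.eventually (eventually_gt_nhds hlt))
  obtain ⟨n, hn, hn1⟩ : ∃ n, n₀ ≤ S * n ∧ 1 ≤ n := ⟨n₀ + 1, by nlinarith, by omega⟩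
  have hon : (n : ℤ) * R ≤ o (S * n) := by
    have h1 : (R : ℝ) / (S : ℝ) < (o (S * n) : ℝ) / ((S : ℝ) * (n : ℝ)) := by
      have := hn₀ (S * n) hn
      rw [show ((S * n : ℕ) : ℝ) = (S : ℝ) * (n : ℝ) from Nat.cast_mul S n] at this
      exact this
    have hn' : (0 : ℝ) < n := by exact_mod_cast hn1
    have hS' : (0 : ℝ) < S := by exact_mod_cast hS0
    rw [div_lt_div_iff₀ hS' (by positivity)] at h1
    have : ((n : ℤ) : ℝ) * R ≤ (o (S * n) : ℝ) := by push_cast; nlinarith
    exact_mod_cast this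
  set G := tw F R S with hG
  set M := filA G M₀ (n - 1) with hMdef
  have hM : M.IsLattice (FractionRing (WittVector p k)) := by
    constructor
    · exact Submodule.fg_iSup _ fun i => fg_latImg (hτ.pow S) G _ hM₀.fg
    · rw [eq_top_iff, ← hM₀.span_eq_top]
      exact Submodule.span_mono (le_filA G M₀ (n - 1))
  have hGM : _root_.Isoc.latImg G 1 M ≤ M := by
    rw [hMdef, filA, latImg_sup (hτ.pow S)]
    refine iSup_le fun i => ?_
    rw [← latImg_add (hτ.pow S)]
    rcases lt_or_ge (1 + (i : ℕ)) n with hlt' | hge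
    · exact latImg_le_filA G M₀ (by omega)
    · rw [show 1 + (i : ℕ) = n by omega]
      refine le_trans ?_ (le_filA G M₀ (n - 1))
      rw [hG, latImg_tw hτ]
      refine (pPow_mono (((ho (S * n)).1).trans (pPow_anti hon M₀))).trans ?_
      rw [pPow_pPow, neg_add_cancel, pPow_zero]
  have hF' : _root_.Isoc.latImg F S M ≤ _root_.Isoc.pPow R M := (latImg_le_pPow_iff hτ F R S M).mpr hGM
  obtain ⟨M', hM', hle⟩ := isEffective_of_latImg_succ_le (hτ.pow s) (F := tw F r s) hh.symm hM (by
    rw [latImg_tw hτ, show s * (h + 1) = S by rw [hS]; ring]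
    refine (pPow_mono hF').trans ?_
    rw [pPow_pPow, hR, show -(((h + 1 : ℕ) : ℤ) * r) + (((h : ℤ) + 1) * r - 1) = -1 by push_cast; ring])
  exact ⟨M', hM', (latImg_le_pPow_iff hτ F r s M').mpr hle⟩

/-- An effective isocrystal has slope `0` or at least `1/h`. -/
theorem slope_gap (hτ : Adm p k τ) {G : N →ₛₗ[τ] N}
    [Module.Finite (FractionRing (WittVector p k)) N] (hG : Function.Bijective G) {lam : ℝ}
    (hl : _root_.Isoc.IsFirstSlope G lam) {h : ℕ}
    (hh : Module.finrank (FractionRing (WittVector p k)) N = h)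
    {M : Submodule (WittVector p k) N} (hM : M.IsLattice (FractionRing (WittVector p k)))
    (heff : _root_.Isoc.latImg G 1 M ≤ M) : lam = 0 ∨ 1 / (h : ℝ) ≤ lam := by
  have := nontrivial_of_isFirstSlope hl
  have hpos : 0 < h := hh ▸ Module.finrank_pos
  have hdec : ∀ i j, i ≤ j → _root_.Isoc.latImg G j M ≤ _root_.Isoc.latImg G i M := by
    intro i j hij
    obtain ⟨t, rfl⟩ := Nat.le.dest hij
    rw [latImg_add hτ]
    refine latImg_mono ?_
    have := latImg_mul_le hτ (r := 0) (by rwa [pPow_zero]) t (F := G) (s := 1)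
    rwa [mul_one, mul_zero, pPow_zero] at this
  by_cases hall : ∃ n, _root_.Isoc.latImg G n M ≤ _root_.Isoc.pPow 1 M
  · right
    obtain ⟨n, hn⟩ := hall
    suffices hkey : _root_.Isoc.latImg G h M ≤ _root_.Isoc.pPow 1 M by
      simpa using le_slope_of_latImg_le hτ hG hl hM hpos hkey
    by_contra hnot
    have hpM : _root_.Isoc.pPow 1 M ≤ M := by
      simpa [pPow_zero] using pPow_anti (zero_le_one : (0 : ℤ) ≤ 1) M
    have hGp : _root_.Isoc.latImg G 1 (_root_.Isoc.pPow 1 M) ≤ _root_.Isoc.pPow 1 M := by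
      rw [latImg_pPow hτ]; exact pPow_mono heff
    obtain ⟨j, hj, hle⟩ := exists_chain_eq hM (Module.finBasisOfFinrankEq _ _ hh)
      (fun j => _root_.Isoc.latImg G (h - j) M ⊔ _root_.Isoc.pPow 1 M)
      (fun j _ => sup_le (by simpa [latImg_zero] using hdec 0 (h - j) (Nat.zero_le _)) hpM)
      (fun j _ => le_sup_right)
      (fun j _ => sup_le_sup_right (hdec _ _ (by omega)) _)
      (fun hle => hnot (le_sup_left.trans hle))
    obtain ⟨i, hi⟩ : ∃ i, h - j = i + 1 := ⟨h - j - 1, by omega⟩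
    rw [hi, show h - (j + 1) = i by omega] at hle
    have hstab : ∀ t, _root_.Isoc.latImg G i M ≤
        _root_.Isoc.latImg G (i + t) M ⊔ _root_.Isoc.pPow 1 M := by
      intro t
      induction t with
      | zero => exact le_sup_left
      | succ t ih =>
        refine (le_sup_left.trans hle).trans (sup_le ?_ le_sup_right)
        rw [add_comm i 1, latImg_add hτ]
        refine (latImg_mono ih).trans ?_
        rw [sup_eq_iSup, latImg_sup hτ]
        refine iSup_le fun c => ?_
        cases c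
        · exact le_sup_of_le_right hGp
        · refine le_sup_of_le_left ?_
          show _root_.Isoc.latImg G 1 (_root_.Isoc.latImg G (i + t) M) ≤ _
          rw [← latImg_add hτ, show i + (t + 1) = 1 + (i + t) by ring]
    refine hnot ((hdec i h (by omega)).trans ((hstab n).trans (sup_le ?_ le_rfl)))
    exact (hdec n (i + n) (by omega)).trans hn
  · left
    push Not at hall
    obtain ⟨o, ho, ht⟩ := exists_ord_seq_of_isFirstSlope hτ hG hl hM
    have : o = fun _ => 0 := funext fun n => isOrd_unique (ho n) ⟨by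
      rw [pPow_zero]; simpa [latImg_zero] using hdec 0 n (Nat.zero_le _), by
      simpa using hall n⟩
    subst this
    exact tendsto_nhds_unique ht (by simp)

theorem exists_slope_eq_div (hτ : Adm p k τ) {F : N →ₛₗ[τ] N}
    [Module.Finite (FractionRing (WittVector p k)) N] (hF : Function.Bijective F) {lam : ℝ}
    (hl : _root_.Isoc.IsFirstSlope F lam) {h : ℕ}
    (hh : Module.finrank (FractionRing (WittVector p k)) N = h) :
    ∃ (r : ℤ) (s : ℕ) (M : Submodule (WittVector p k) N), 0 < s ∧ s ≤ h ∧ lam = (r : ℝ) / s ∧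
      M.IsLattice (FractionRing (WittVector p k)) ∧ _root_.Isoc.IsOrd M F s r := by
  have := nontrivial_of_isFirstSlope hl
  have hpos : 0 < h := hh ▸ Module.finrank_pos
  obtain ⟨r, s', hs0, hsh, habs⟩ := Real.exists_int_int_abs_mul_sub_le lam hpos
  obtain ⟨s, rfl⟩ : ∃ s : ℕ, s' = s := ⟨s'.toNat, by omega⟩
  have hs : 0 < s := by omega
  have hs' : (0 : ℝ) < s := by exact_mod_cast hs
  have hh' : (0 : ℝ) < h := by exact_mod_cast hpos
  rw [Int.cast_natCast, abs_le] at habs
  have hrs : (r : ℝ) / s ≤ lam := by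
    obtain ⟨M, hM, hle⟩ := exists_latImg_le_of_le_slope hτ hF hl (r := ((h : ℤ) + 1) * r - 1)
      (s := (h + 1) * s) (by positivity) (by
        push_cast
        rw [div_le_iff₀ (by positivity)]
        have := habs.1
        rw [neg_le, div_eq_mul_inv, one_mul] at this
        have h2 : ((h : ℝ) + 1) * ((r : ℝ) - s * lam) ≤ 1 := by
          have := mul_le_mul_of_nonneg_left this (by positivity : (0 : ℝ) ≤ (h : ℝ) + 1)
          rw [mul_inv_cancel₀ (by positivity)] at this
          linarith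
        nlinarith)
    obtain ⟨M', hM', hle'⟩ := isEffective_of_latImg_succ_le (hτ.pow s) (F := tw F r s) hh hM (by
      rw [latImg_tw hτ, mul_comm s (h + 1)]
      refine (pPow_mono hle).trans ?_
      rw [pPow_pPow, show -(((h + 1 : ℕ) : ℤ) * r) + (((h : ℤ) + 1) * r - 1) = -1 by push_cast; ring])
    exact le_slope_of_latImg_le hτ hF hl hM' hs ((latImg_le_pPow_iff hτ F r s M').mpr hle')
  obtain ⟨M, hM, hle⟩ := exists_latImg_le_of_le_slope hτ hF hl hs hrs
  have hgap := slope_gap (hτ.pow s) (tw_bijective hτ hF r s)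
    (isFirstSlope_smul_iter hτ hF hl (-r) s) hh hM ((latImg_le_pPow_iff hτ F r s M).mp hle)
  have hzero : (s : ℝ) * lam + ((-r : ℤ) : ℝ) = 0 := by
    rcases hgap with h0 | h1
    · exact h0
    · exfalso
      have h2 := habs.2
      push_cast at h1
      have : (1 : ℝ) / ((h : ℝ) + 1) < 1 / h := one_div_lt_one_div_of_lt hh' (by linarith)
      linarith
  push_cast at hzero
  have hlam : lam = (r : ℝ) / s := by rw [eq_div_iff hs'.ne']; linarith
  refine ⟨r, s, M, hs, by omega, hlam, hM, hle, fun hle1 => ?_⟩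
  have := le_slope_of_latImg_le hτ hF hl hM hs hle1
  rw [hlam, div_le_div_iff_of_pos_right hs'] at this
  push_cast at this
  linarith

theorem exists_latImg_eq_of_slope (hτ : Adm p k τ) {F : N →ₛₗ[τ] N}
    [Module.Finite (FractionRing (WittVector p k)) N] (hF : Function.Bijective F) {h : ℕ} {d : ℤ}
    (H : HasOrdDet F h d) (hl : _root_.Isoc.IsFirstSlope F ((d : ℝ) / h)) :
    ∃ M : Submodule (WittVector p k) N, M.IsLattice (FractionRing (WittVector p k)) ∧
      _root_.Isoc.latImg F h M = _root_.Isoc.pPow d M := by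
  have := nontrivial_of_isFirstSlope hl
  obtain ⟨b, hb⟩ := id H
  have hpos : 0 < h := by
    have := Module.finrank_eq_card_basis b
    rw [Fintype.card_fin] at this
    rw [← this]; exact Module.finrank_pos
  obtain ⟨M, hM, hle⟩ := exists_latImg_le_of_le_slope hτ hF hl hpos le_rfl
  refine ⟨M, hM, (latImg_eq_pPow_iff hτ F d h M).mpr ?_⟩
  exact (latImg_one_eq_iff (hτ.pow h) (ordDet_smul (ordDet_iter hτ H h) (-d)) hM
    ((latImg_le_pPow_iff hτ F d h M).mp hle)).mpr (by ring)

theorem mul_eq_mul_of_latImg_eq (hτ : Adm p k τ) {F : N →ₛₗ[τ] N} {h : ℕ} {d : ℤ}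
    (H : HasOrdDet F h d) {M : Submodule (WittVector p k) N}
    (hM : M.IsLattice (FractionRing (WittVector p k))) {r : ℤ} {s : ℕ}
    (hFM : _root_.Isoc.latImg F s M = _root_.Isoc.pPow r M) : r * h = s * d := by
  have heq := (latImg_eq_pPow_iff hτ F r s M).mp hFM
  have := (latImg_one_eq_iff (hτ.pow s) (ordDet_smul (ordDet_iter hτ H s) (-r)) hM heq.le).mp heq
  linarith

theorem isFirstSlope_of_latImg_eq (hτ : Adm p k τ) {F : N →ₛₗ[τ] N}
    [Module.Finite (FractionRing (WittVector p k)) N] [Nontrivial N] (hF : Function.Bijective F)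
    {M : Submodule (WittVector p k) N} (hM : M.IsLattice (FractionRing (WittVector p k))) {r : ℤ}
    {s : ℕ} (hs : 0 < s) (hFM : _root_.Isoc.latImg F s M = _root_.Isoc.pPow r M) :
    _root_.Isoc.IsFirstSlope F ((r : ℝ) / s) := by
  obtain ⟨o, ho, lam, ht⟩ := exists_ord_seq hτ hF hM
  have ht' : Tendsto (fun n : ℕ => (o (n * s) : ℝ) / ((n * s : ℕ) : ℝ)) atTop (𝓝 lam) :=
    ht.comp (tendsto_atTop_atTop.mpr fun b => ⟨b, fun n hn => hn.trans (Nat.le_mul_of_pos_right n hs)⟩)
  have hc : Tendsto (fun n : ℕ => (o (n * s) : ℝ) / ((n * s : ℕ) : ℝ)) atTop (𝓝 ((r : ℝ) / s)) := by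
    refine tendsto_const_nhds.congr' (Filter.eventually_atTop.mpr ⟨1, fun n hn => ?_⟩)
    simp only
    rw [isOrd_unique (ho (n * s)) (isOrd_of_eq hτ hM hFM n)]
    have hn' : (n : ℝ) ≠ 0 := by
      have : (0 : ℝ) < n := by exact_mod_cast hn
      exact this.ne'
    push_cast
    field_simp
  exact ⟨M, hM, o, fun n _ => ho n, tendsto_nhds_unique ht' hc ▸ ht⟩

end GrothLib.Isoc
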