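import Groth.Agent.Lib.Isoc.Decomp

/-!
# The standard isocrystals
-/

set_option autoImplicit false

noncomputable section

namespace GrothLib.Isoc

open scoped Isocrystal Pointwise

universe u

variable {p : ℕ} [Fact p.Prime] {k : Type u} [Field k] [CharP k p]
variable {τ : FractionRing (WittVector p k) →+* FractionRing (WittVector p k)}

theorem std_iterate (d : ℤ) (h : ℕ) (hh : 0 < h) :
    ∀ j ≤ h, ∀ (x : Fin h → FractionRing (WittVector p k)) (i : Fin h),
      (⇑(_root_.Isoc.stdIsoc τ d h))^[j] x i =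
        (if i.val < j then (p : FractionRing (WittVector p k)) ^ d else 1) *
          (τ ^ j) (x ⟨(i.val + (h - j)) % h, Nat.mod_lt _ hh⟩) := by
  intro j
  induction j with
  | zero =>
    intro _ x i
    have : (⟨(i.val + (h - 0)) % h, Nat.mod_lt _ hh⟩ : Fin h) = i := by
      ext; simp [Nat.add_mod_right, Nat.mod_eq_of_lt i.2]
    simp only [Nat.not_lt_zero, if_false, one_mul, pow_zero, this, Function.iterate_zero, id_eq]
    rfl
  | succ j ih =>
    intro hj x i
    obtain ⟨n, rfl⟩ : ∃ n, h = n + 1 := ⟨h - 1, by omega⟩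
    rw [Function.iterate_succ_apply', _root_.Isoc.stdIsoc_apply, ih (by omega)]
    have hsymm : ((finRotate (n + 1)).symm i).val = if i.val = 0 then n else i.val - 1 := by
      have : (finRotate (n + 1)).symm i = ⟨if i.val = 0 then n else i.val - 1, by
          split_ifs <;> omega⟩ := by
        rw [Equiv.symm_apply_eq, finRotate_succ_apply]
        ext
        rw [Fin.val_add, Fin.val_one']
        simp only [Nat.add_mod_mod]
        split_ifs with h0
        · rw [h0, Nat.mod_self]
        · rw [Nat.mod_eq_of_lt (by omega)]; omega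
      rw [this]
    have hidx : ((((finRotate (n + 1)).symm i).val + (n + 1 - j)) % (n + 1)) =
        (i.val + (n + 1 - (j + 1))) % (n + 1) := by
      rw [hsymm]
      split_ifs with h0
      · rw [show n + (n + 1 - j) = (i.val + (n + 1 - (j + 1))) + (n + 1) by omega, Nat.add_mod_right]
      · congr 1; omega
    rw [map_mul, pow_succ', RingHom.coe_mul, Function.comp_apply]
    simp only [hidx]
    rw [← mul_assoc]
    congr 1
    rw [apply_ite τ, map_one, tau_pz, hsymm]
    by_cases h0 : i.val = 0
    · simp [h0, show ¬ n < j by omega]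
    · by_cases h1 : i.val < j + 1
      · simp [h0, h1, show i.val - 1 < j by omega]
      · simp [h0, h1, show ¬ i.val - 1 < j by omega]

theorem std_iterate_h (d : ℤ) (h : ℕ) (hh : 0 < h) (x : Fin h → FractionRing (WittVector p k))
    (i : Fin h) :
    (⇑(_root_.Isoc.stdIsoc τ d h))^[h] x i =
      (p : FractionRing (WittVector p k)) ^ d * (τ ^ h) (x i) := by
  rw [std_iterate d h hh h le_rfl, if_pos i.2]
  congr 3
  ext
  simp [Nat.mod_eq_of_lt i.2]

theorem std_bijective (hτ : Adm p k τ) (d : ℤ) (h : ℕ) :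
    Function.Bijective (_root_.Isoc.stdIsoc τ d h) := by
  refine ⟨fun x y e => funext fun i => ?_, fun y => ?_⟩
  · have e' := congrFun e (finRotate h i)
    rw [_root_.Isoc.stdIsoc_apply, _root_.Isoc.stdIsoc_apply, Equiv.symm_apply_apply] at e'
    refine τ.injective (mul_left_cancel₀ ?_ e')
    split_ifs
    · exact pz d
    · exact one_ne_zero
  · choose x hx using fun i : Fin h => hτ.surjective
      ((if (finRotate h i).val = 0 then (p : FractionRing (WittVector p k)) ^ d else 1)⁻¹ *
        y (finRotate h i))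
    refine ⟨x, funext fun i => ?_⟩
    rw [_root_.Isoc.stdIsoc_apply, hx, Equiv.apply_symm_apply, ← mul_assoc, mul_inv_cancel₀, one_mul]
    split_ifs
    · exact pz d
    · exact one_ne_zero

/-- The standard lattice. -/
def stdLattice (p : ℕ) [Fact p.Prime] (k : Type u) [Field k] [CharP k p] (h : ℕ) :
    Submodule (WittVector p k) (Fin h → FractionRing (WittVector p k)) :=
  LinearMap.range ((Algebra.linearMap (WittVector p k) (FractionRing (WittVector p k))).compLeft (Fin h))

theorem mem_stdLattice {h : ℕ} {x : Fin h → FractionRing (WittVector p k)} :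
    x ∈ stdLattice p k h ↔
      ∀ i, ∃ w, algebraMap (WittVector p k) (FractionRing (WittVector p k)) w = x i := by
  constructor
  · rintro ⟨w, rfl⟩ i; exact ⟨w i, rfl⟩
  · intro hx; choose w hw using hx; exact ⟨w, funext hw⟩

theorem stdLattice_isLattice (h : ℕ) :
    (stdLattice p k h).IsLattice (FractionRing (WittVector p k)) := by
  classical
  constructor
  · rw [stdLattice, LinearMap.range_eq_map]
    exact Module.Finite.fg_top.map _
  · rw [eq_top_iff, ← (Pi.basisFun (FractionRing (WittVector p k)) (Fin h)).span_eq]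
    refine Submodule.span_mono ?_
    rintro _ ⟨i, rfl⟩
    rw [SetLike.mem_coe, mem_stdLattice]
    intro j
    rw [Pi.basisFun_apply, Pi.single_apply]
    split_ifs
    · exact ⟨1, map_one _⟩
    · exact ⟨0, map_zero _⟩

theorem std_latImg (hτ : Adm p k τ) (d : ℤ) (h : ℕ) (hh : 0 < h) :
    _root_.Isoc.latImg (_root_.Isoc.stdIsoc τ d h) h (stdLattice p k h) =
      _root_.Isoc.pPow d (stdLattice p k h) := by
  ext x
  rw [mem_latImg hτ, mem_pPow, mem_stdLattice]
  constructor
  · rintro ⟨y, hy, rfl⟩ i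
    obtain ⟨w, hw⟩ := mem_stdLattice.mp hy i
    obtain ⟨w', hw'⟩ := (hτ.pow h).maps w
    exact ⟨w', by rw [Pi.smul_apply, smul_eq_mul, std_iterate_h d h hh, ← hw, hw', ← mul_assoc,
      ← zpow_add₀ (pne (p := p) (k := k)), neg_add_cancel, zpow_zero, one_mul]⟩
  · intro hx
    choose w hw using hx
    choose w' hw' using fun i => (hτ.pow h).onto (w i)
    refine ⟨fun i => algebraMap _ _ (w' i), mem_stdLattice.mpr fun i => ⟨w' i, rfl⟩, funext fun i => ?_⟩
    rw [std_iterate_h d h hh, hw' i, hw i, Pi.smul_apply, smul_eq_mul, ← mul_assoc,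
      ← zpow_add₀ (pne (p := p) (k := k)), add_neg_cancel, zpow_zero, one_mul]

theorem std_isoclOn (hτ : Adm p k τ) (d : ℤ) (h : ℕ) (hh : 0 < h) :
    IsoclOn (_root_.Isoc.stdIsoc τ d h) ⊤ ((d : ℚ) / h) :=
  isoclOn_top.mpr ⟨stdLattice p k h, stdLattice_isLattice h, d, h, hh, rfl, std_latImg hτ d h hh⟩

variable [PerfectRing k p]

/-- A standard isocrystal of slope in lowest terms is simple. -/
theorem std_simple (hτ : Adm p k τ) (d : ℤ) (h : ℕ) (hh : 0 < h) (hdh : Int.gcd d h = 1)
    (P : Submodule (FractionRing (WittVector p k)) (Fin h → FractionRing (WittVector p k)))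
    (hP : ∀ x ∈ P, _root_.Isoc.stdIsoc τ d h x ∈ P) : P = ⊥ ∨ P = ⊤ := by
  rcases eq_or_ne P ⊥ with hbot | hbot
  · exact Or.inl hbot
  right
  have hb := std_bijective (p := p) (k := k) hτ d h
  have hiso := ((std_isoclOn hτ d h hh).inter hτ hb hP le_top)
  obtain ⟨M, hM, r, s, hs, hμ, e⟩ := (isIsoclinic_restrict_iff hP).mpr hiso
  set G := (_root_.Isoc.stdIsoc τ d h).restrict hP
  have hG : Function.Bijective G := by
    refine ⟨fun a b he => Subtype.ext (hb.1 (congrArg Subtype.val he)), fun y => ?_⟩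
    obtain ⟨x, hx⟩ := hb.2 (y : Fin h → FractionRing (WittVector p k))
    exact ⟨⟨x, mem_of_map_mem hb hP (hx ▸ y.2)⟩, Subtype.ext hx⟩
  obtain ⟨d', hd'⟩ := exists_ordDet hτ hG
  have key := mul_eq_mul_of_latImg_eq hτ hd' hM e
  set h' := Module.finrank (FractionRing (WittVector p k)) P
  have hpos : 0 < h' := by
    have : Nontrivial P := Submodule.nontrivial_iff_ne_bot.mpr hbot
    exact Module.finrank_pos
  have hle : h' ≤ h := by
    refine (Submodule.finrank_le P).trans ?_
    rw [Module.finrank_fin_fun]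
  rw [div_eq_div_iff (by exact_mod_cast hs.ne') (by exact_mod_cast hh.ne')] at hμ
  have hμ' : r * h = d * s := by exact_mod_cast hμ
  have h2 : d * h' = d' * h := by
    have h3 : (s : ℤ) * (d * h') = (s : ℤ) * (d' * h) := by
      linear_combination (h : ℤ) * key - (h' : ℤ) * hμ'
    exact mul_left_cancel₀ (by exact_mod_cast hs.ne') h3
  have hdvd : (h : ℤ) ∣ d * h' := ⟨d', by rw [h2, mul_comm]⟩
  have hco : IsCoprime (h : ℤ) d := by
    rw [Int.isCoprime_iff_gcd_eq_one, Int.gcd_comm]; exact hdh
  have h3 : h ∣ h' := Int.natCast_dvd_natCast.mp (hco.dvd_of_dvd_mul_left hdvd)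
  refine Submodule.eq_top_of_finrank_eq ?_
  rw [Module.finrank_fin_fun]
  exact le_antisymm hle (Nat.le_of_dvd hpos h3)

end GrothLib.Isoc
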